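import Cfsg.Agent.H698.Fine

/-!
# S4790, T8: the numerical bound for simple groups (helper223)

`Bn T`: `|Aut T| ≤ 6 p ^ (m - 1)` for `p ≥ 23` and all projective representations of dimension `m ≥ 3` in coprime
characteristic `p`.  The criteria have the same hypotheses as those of `H698.Fine`.
-/

set_option autoImplicit false

namespace Cfsg.Agent.H223.Bnd

open Cfsg.Agent.H698

universe u u' v w

/-- the bound -/
def Bn (T : Type u) [Group T] : Prop :=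
  ∀ p m : ℕ, p.Prime → 23 ≤ p → ¬ p ∣ Nat.card T → 3 ≤ m → Rep.{u, w} p m T →
    Nat.card (MulAut T) ≤ 6 * p ^ (m - 1)

/-- the numerical step -/
theorem le_of_mul_lt {p m a c : ℕ} (hc : p ≤ 6 * c) (hm : 3 ≤ m) (h : c * a + 1 < p ^ m) :
    a ≤ 6 * p ^ (m - 1) := by
  by_contra hlt
  obtain ⟨v, rfl⟩ : ∃ v, m = v + 1 := ⟨m - 1, by omega⟩
  simp only [Nat.add_sub_cancel] at hlt
  have h1 : p ^ (v + 1) ≤ c * a := by
    calc p ^ (v + 1) = p * p ^ v := pow_succ' _ _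
      _ ≤ (6 * c) * p ^ v := Nat.mul_le_mul_right _ hc
      _ = c * (6 * p ^ v) := by ring
      _ ≤ c * a := Nat.mul_le_mul_left _ (by omega)
  omega

theorem Bn.congr {T : Type u} {T' : Type u'} [Group T] [Group T'] (h : Bn.{u, w} T) (e : T ≃* T') :
    Bn.{u', w} T' := by
  intro p m hp h23 hpT hm hR
  have hc : Nat.card T' = Nat.card T := Nat.card_congr e.symm.toEquiv
  have hA : Nat.card (MulAut T') = Nat.card (MulAut T) := Nat.card_congr (autCongr e.symm).toEquiv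
  rw [hA]
  exact h p m hp h23 (by rwa [hc] at hpT) hm (hR.congr e.symm)

section

variable {T : Type u} [Group T] [Finite T]

theorem Bn.of_le {k : ℕ} (hk : k ≤ 19)
    (h : ∀ p m : ℕ, p.Prime → 11 ≤ p → ¬ p ∣ Nat.card T → 3 ≤ m → Rep.{u, w} p m T →
      (p - k) * Nat.card (MulAut T) + 1 < p ^ m) : Bn.{u, w} T := by
  intro p m hp h23 hpT hm hR
  exact le_of_mul_lt (by omega) hm (h p m hp (by omega) hpT hm hR)

/-- directly -/
theorem Bn.direct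
    (h : ∀ p m : ℕ, p.Prime → 23 ≤ p → ¬ p ∣ Nat.card T → 3 ≤ m → Rep.{u, w} p m T →
      Nat.card (MulAut T) ≤ 6 * p ^ (m - 1)) : Bn.{u, w} T := h

theorem Bn.of_classes {k : ℕ}
    (_ : ∀ X : Subgroup (MulAut T), (MulAut.conj : T →* MulAut T).range ≤ X → k ≤ Nat.card (ConjClasses X))
    (h : ∀ p m : ℕ, p.Prime → 11 ≤ p → ¬ p ∣ Nat.card T → 3 ≤ m → Rep.{u, w} p m T →
      (p + 1 - 2 * k) * Nat.card (MulAut T) + 1 < p ^ m) (hk : k ≤ 10 := by norm_num) : Bn.{u, w} T := by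
  intro p m hp h23 hpT hm hR
  exact le_of_mul_lt (by omega) hm (h p m hp (by omega) hpT hm hR)

theorem Bn.of_lt (_ : Subgroup.center T = ⊥) (_ : 1 < Nat.card T)
    (h : ∀ p m : ℕ, p.Prime → 11 ≤ p → ¬ p ∣ Nat.card T → 3 ≤ m → Rep.{u, w} p m T →
      (p - 3) * Nat.card (MulAut T) + 1 < p ^ m) : Bn.{u, w} T := Bn.of_le (by norm_num) h

theorem Bn.of_lt5 (_ : Subgroup.center T = ⊥) (_ : 42 < Nat.card T)
    (h : ∀ p m : ℕ, p.Prime → 11 ≤ p → ¬ p ∣ Nat.card T → 3 ≤ m → Rep.{u, w} p m T →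
      (p - 9) * Nat.card (MulAut T) + 1 < p ^ m) : Bn.{u, w} T := Bn.of_le (by norm_num) h

theorem Bn.of_lt6 (_ : Subgroup.center T = ⊥) (_ : 1806 < Nat.card T)
    (h : ∀ p m : ℕ, p.Prime → 11 ≤ p → ¬ p ∣ Nat.card T → 3 ≤ m → Rep.{u, w} p m T →
      (p - 11) * Nat.card (MulAut T) + 1 < p ^ m) : Bn.{u, w} T := Bn.of_le (by norm_num) h

theorem Bn.of_lt7 (_ : Subgroup.center T = ⊥) (_ : 3263442 < Nat.card T)
    (h : ∀ p m : ℕ, p.Prime → 11 ≤ p → ¬ p ∣ Nat.card T → 3 ≤ m → Rep.{u, w} p m T →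
      (p - 13) * Nat.card (MulAut T) + 1 < p ^ m) : Bn.{u, w} T := Bn.of_le (by norm_num) h

/-- A uniform bound. -/
theorem Bn.of_eleven (_ : Subgroup.center T = ⊥) (_ : 1 < Nat.card T) {d : ℕ}
    (hd : ∀ p m : ℕ, p.Prime → 11 ≤ p → ¬ p ∣ Nat.card T → 3 ≤ m → Rep.{u, w} p m T → d + 1 ≤ m)
    (h : Nat.card (MulAut T) ≤ 11 ^ d) : Bn.{u, w} T := by
  intro p m hp h23 hpT hm hR
  have h1 := hd p m hp (by omega) hpT hm hR
  have h2 : 11 ^ d ≤ p ^ d := Nat.pow_le_pow_left (by omega) d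
  have h3 : p ^ d ≤ p ^ (m - 1) := Nat.pow_le_pow_right (by omega) (by omega)
  omega

/-- a uniform bound from `p ≥ 23` -/
theorem Bn.of_twentythree {d : ℕ}
    (hd : ∀ p m : ℕ, p.Prime → 23 ≤ p → ¬ p ∣ Nat.card T → 3 ≤ m → Rep.{u, w} p m T → d + 1 ≤ m)
    (h : Nat.card (MulAut T) ≤ 6 * 23 ^ d) : Bn.{u, w} T := by
  intro p m hp h23 hpT hm hR
  have h1 := hd p m hp h23 hpT hm hR
  have h2 : 23 ^ d ≤ p ^ d := Nat.pow_le_pow_left h23 d
  have h3 : p ^ d ≤ p ^ (m - 1) := Nat.pow_le_pow_right (by omega) (by omega)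
  omega

end

end Cfsg.Agent.H223.Bnd
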