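import Cfsg.Agent.H698.FinePR
import Cfsg.Agent.H189.FeitTits
import Cfsg.Agent.H912.BdAlt
import Cfsg.Agent.H202.TwoTransAltD
import Cfsg.Agent.S2119
import Cfsg.Agent.S2116
import Cfsg.Agent.H487.SchurMult
import Cfsg.Agent.H223.Bnd.Base

/-!
# The alternating groups are `Fine`

`fine_alt` : the row of the alternating groups for S4881 (two orbits of coprime linear groups).
-/

set_option autoImplicit false

namespace Cfsg.Agent.H223.Bnd.H656.FineAlt
open Cfsg.Agent.H698 Equiv

universe u w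

/-! ### Counting classes -/

/-- Elements of a normal subgroup with different orders, and one class in each coset of an abelian quotient. -/
theorem classes_ge {X : Type*} [Group X] [Finite X] (N : Subgroup X) [N.Normal]
    (hcomm : ∀ a b : X ⧸ N, a * b = b * a) {k : ℕ} (x : Fin k → X) (hx : ∀ i, x i ∈ N)
    (ho : Function.Injective fun i => orderOf (x i)) : k + (N.index - 1) ≤ Nat.card (ConjClasses X) := by
  classical
  let g : ConjClasses X → X ⧸ N := Quotient.lift (QuotientGroup.mk' N) (by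
    intro a b hab
    obtain ⟨c, hc⟩ := isConj_iff.1 hab
    rw [← hc, map_mul, map_mul, hcomm, ← mul_assoc, ← map_mul, inv_mul_cancel, map_one, one_mul])
  have hg : ∀ a, g (ConjClasses.mk a) = QuotientGroup.mk' N a := fun a => rfl
  have hgx : ∀ i, g (ConjClasses.mk (x i)) = 1 := fun i => by
    rw [hg, QuotientGroup.mk'_apply, QuotientGroup.eq_one_iff]
    exact hx i
  let f : Fin k ⊕ {q : X ⧸ N // q ≠ 1} → ConjClasses X :=
    Sum.elim (fun i => ConjClasses.mk (x i)) (fun q => ConjClasses.mk q.1.out)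
  have hgq : ∀ q : X ⧸ N, g (ConjClasses.mk q.out) = q := fun q => by
    rw [hg, QuotientGroup.mk'_apply]
    exact Quotient.out_eq' q
  have hf : Function.Injective f := by
    rintro (i | q) (j | q') h
    · have h1 : IsConj (x i) (x j) := ConjClasses.mk_eq_mk_iff_isConj.1 h
      obtain ⟨c, hc⟩ := isConj_iff.1 h1
      have h2 : orderOf (x i) = orderOf (x j) := by
        rw [← hc, ← MulAut.conj_apply]
        exact (MulEquiv.orderOf_eq (MulAut.conj c) (x i)).symm
      exact congrArg Sum.inl (ho h2)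
    · exfalso
      have h1 : ConjClasses.mk (x i) = ConjClasses.mk q'.1.out := h
      have h2 := hgx i
      rw [h1, hgq] at h2
      exact q'.2 h2
    · exfalso
      have h1 : ConjClasses.mk q.1.out = ConjClasses.mk (x j) := h
      have h2 := hgx j
      rw [← h1, hgq] at h2
      exact q.2 h2
    · have h1 : ConjClasses.mk q.1.out = ConjClasses.mk q'.1.out := h
      have h2 := congrArg g h1
      rw [hgq, hgq] at h2
      exact congrArg Sum.inr (Subtype.ext h2)
  have h1 := Nat.card_le_card_of_injective f hf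
  rw [Nat.card_sum, Nat.card_eq_fintype_card (α := Fin k), Fintype.card_fin] at h1
  have h2 : Nat.card {q : X ⧸ N // q ≠ 1} = N.index - 1 := by
    have : Fintype (X ⧸ N) := Fintype.ofFinite _
    rw [Nat.card_eq_fintype_card, Fintype.card_subtype_compl, Fintype.card_subtype_eq,
      Subgroup.index, Nat.card_eq_fintype_card]
  omega

/-! ### The general case -/

theorem card_alt {n : ℕ} (hn : 2 ≤ n) : 2 * Nat.card (alternatingGroup (Fin n)) = n.factorial := by
  have : Nontrivial (Fin n) := Fin.nontrivial_iff_two_le.2 hn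
  rw [two_mul_nat_card_alternatingGroup, Nat.card_perm, Nat.card_eq_fintype_card, Fintype.card_fin]

theorem card_aut {n : ℕ} (hn : 4 ≤ n) (h6 : n ≠ 6) :
    Nat.card (MulAut ↥(alternatingGroup (Fin n))) = n.factorial := by
  rw [← Nat.card_congr (Equiv.ofBijective _ (S2119.result n hn h6)), Nat.card_perm, Nat.card_eq_fintype_card,
    Fintype.card_fin]

theorem lt_of_not_dvd {n p : ℕ} (hn : 2 ≤ n) (hp : p.Prime) (h11 : 11 ≤ p)
    (hpT : ¬ p ∣ Nat.card (alternatingGroup (Fin n))) : n < p := by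
  by_contra h
  have h1 : p ∣ n.factorial := Nat.dvd_factorial hp.pos (by omega)
  rw [← card_alt hn] at h1
  rcases hp.dvd_mul.1 h1 with h2 | h2
  · have := Nat.le_of_dvd (by norm_num) h2
    omega
  · exact hpT h2

theorem center_alt {n : ℕ} (hn : 5 ≤ n) : Subgroup.center (alternatingGroup (Fin n)) = ⊥ :=
  alternatingGroup.center_eq_bot (by rw [Nat.card_eq_fintype_card, Fintype.card_fin]; omega)

theorem fact_le {p : ℕ} : ∀ j : ℕ, 3 + j ≤ p → (3 + j).factorial ≤ 6 * p ^ j
  | 0, _ => by simp [Nat.factorial]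
  | j + 1, h => by
    have h1 := fact_le (p := p) j (by omega)
    calc (3 + (j + 1)).factorial = (3 + j + 1) * (3 + j).factorial := Nat.factorial_succ (3 + j)
      _ ≤ p * (6 * p ^ j) := Nat.mul_le_mul (by omega) h1
      _ = 6 * p ^ (j + 1) := by ring

theorem rep_ge {n p m : ℕ} (hn : 9 ≤ n) (hnp : n < p)
    (h : Rep.{0, w} p m (alternatingGroup (Fin n))) : n - 1 ≤ m := by
  obtain ⟨F, _, _, _, P, _, _, π, ρ, h1, h2, h3, h4, h5⟩ := h
  let ρ' : P →* Module.End F (Fin m → F) :=
    ((Matrix.toLinAlgEquiv' : Matrix (Fin m) (Fin m) F ≃ₐ[F] _).toAlgHom.toRingHom.toMonoidHom).comp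
      ((Units.coeHom _).comp ρ)
  have h6 := Cfsg.Agent.H189.FeitTits.feit_tits p hn π h1 ρ' (by
    intro g hg
    have h7 : ρ g = ρ 1 := by
      apply Units.ext
      have h8 : (Matrix.toLinAlgEquiv' : Matrix (Fin m) (Fin m) F ≃ₐ[F] _) (ρ g : Matrix (Fin m) (Fin m) F) = 1 := hg
      rw [map_one, Units.val_one]
      exact Matrix.toLinAlgEquiv'.injective (by rw [h8, map_one])
    rw [h4 h7, map_one])
  rw [if_neg (fun h => by have := Nat.le_of_dvd (by omega) h; omega), Module.finrank_fintype_fun_eq_card,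
    Fintype.card_fin] at h6
  omega

theorem fine_big {n : ℕ} (hn : 9 ≤ n) : Cfsg.Agent.H223.Bnd.Bn.{0, w} (alternatingGroup (Fin n)) := by
  refine Cfsg.Agent.H223.Bnd.Bn.of_lt (center_alt (by omega)) ?_ fun p m hp h11 hpT hm hR => ?_
  · have h1 := card_alt (n := n) (by omega)
    have h2 : Nat.factorial 9 ≤ n.factorial := Nat.factorial_le hn
    have h3 : Nat.factorial 9 = 362880 := by decide
    omega
  · have hnp := lt_of_not_dvd (by omega) hp h11 hpT
    have h1 := rep_ge hn hnp hR
    rw [card_aut (by omega) (by omega)]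
    obtain ⟨j, rfl⟩ : ∃ j, n = 3 + j := ⟨n - 3, by omega⟩
    have h2 := fact_le (p := p) j (by omega)
    have h0 : j + 2 ≤ m := by omega
    have h3 : p ^ (j + 2) ≤ p ^ m := Nat.pow_le_pow_right (by omega) h0
    have h4 : 6 * p ^ j ≤ p * p ^ j := Nat.mul_le_mul_right _ (by omega)
    have h5 : (p - 3) * (3 + j).factorial ≤ (p - 3) * (p * p ^ j) := Nat.mul_le_mul_left _ (h2.trans h4)
    have h6 : (p - 3) * (p * p ^ j) + 3 * (p * p ^ j) = p ^ (j + 2) := by
      rw [← add_mul, show p - 3 + 3 = p from by omega]; ring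
    have h7 : 0 < p * p ^ j := Nat.mul_pos (by omega) (Nat.pow_pos (by omega))
    omega

/-! ### Degrees 5 and 7 -/

theorem fine_five : Cfsg.Agent.H223.Bnd.Bn.{0, w} (alternatingGroup (Fin 5)) := by
  have hc := card_alt (n := 5) (by norm_num)
  have hf : Nat.factorial 5 = 120 := by decide
  refine Cfsg.Agent.H223.Bnd.Bn.of_lt5 (center_alt le_rfl) (by omega) fun p m hp h11 hpT hm hR => ?_
  rw [card_aut (by norm_num) (by norm_num), hf]
  have h1 : p ^ 3 ≤ p ^ m := Nat.pow_le_pow_right (by omega) hm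
  have h2 : 11 * 11 * p ≤ p ^ 3 := by
    rw [pow_succ, pow_two]
    exact Nat.mul_le_mul_right _ (Nat.mul_le_mul h11 h11)
  omega

theorem rep_seven {p m : ℕ} (hp : p.Prime) (hpT : ¬ p ∣ Nat.card (alternatingGroup (Fin 7)))
    (h : Rep.{0, w} p m (alternatingGroup (Fin 7))) : 4 ≤ m := by
  have hc := card_alt (n := 7) (by norm_num)
  have hf : Nat.factorial 7 = 5040 := by decide
  have h5 : Nat.Prime 5 := by norm_num
  have e : alternatingGroup (Fin 7) ≃* ULift.{w} (alternatingGroup (Fin 7)) := MulEquiv.ulift.symm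
  have h' : Rep.{w, w} p m (ULift.{w} (alternatingGroup (Fin 7))) := h.congr e
  have hM := Cfsg.Agent.H487.HasSchurMultiplier.congr_left (S2116.result 7 (Or.inr rfl)) e
  refine Rep.le_of_Bd (r := 5) hp h5 ?_ (by rwa [← Nat.card_congr e.toEquiv]) h' hM ?_ ?_
  · rw [← Nat.card_congr e.toEquiv]
    have : Nat.card (alternatingGroup (Fin 7)) = 2520 := by omega
    rw [this]; norm_num
  · rw [Nat.card_eq_fintype_card, Fintype.card_multiplicative, ZMod.card]
    norm_num
  · intro F _ hF
    exact (Cfsg.Agent.H912.Bd.bd_alt_prime h5 hF (by norm_num)).congr e.symm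

theorem fine_seven : Cfsg.Agent.H223.Bnd.Bn.{0, w} (alternatingGroup (Fin 7)) := by
  have hc := card_alt (n := 7) (by norm_num)
  have hf : Nat.factorial 7 = 5040 := by decide
  refine Cfsg.Agent.H223.Bnd.Bn.of_lt5 (center_alt (by norm_num)) (by omega) fun p m hp h11 hpT hm hR => ?_
  rw [card_aut (by norm_num) (by norm_num), hf]
  have h0 := rep_seven hp hpT hR
  have h1 : p ^ 4 ≤ p ^ m := Nat.pow_le_pow_right (by omega) h0
  obtain ⟨j, rfl⟩ : ∃ j, p = 9 + j := ⟨p - 9, by omega⟩
  have h2 : (9 + j) ^ 4 = j ^ 4 + 36 * j ^ 3 + 486 * j ^ 2 + 2916 * j + 6561 := by ring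
  have h3 : 9 + j - 9 = j := by omega
  rw [h3]
  have h4 : 4 * j ≤ j ^ 2 + 4 := by nlinarith [sq_nonneg ((j : ℤ) - 2)]
  have h5 : 3 * j ^ 2 ≤ j ^ 3 + 4 * j := by
    have := Nat.zero_le (j ^ 3)
    nlinarith [sq_nonneg ((j : ℤ) - 2)]
  nlinarith

/-! ### Degree 8 -/

/-- the numbers of fixed points of the first four powers -/
def fixNum (n : ℕ) (σ : Perm (Fin n)) (k : ℕ) : ℕ := (Finset.univ.filter fun i => (σ ^ k) i = i).card

theorem fixNum_conj {n : ℕ} (σ τ : Perm (Fin n)) (k : ℕ) : fixNum n (τ * σ * τ⁻¹) k = fixNum n σ k := by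
  unfold fixNum
  refine Finset.card_bij (fun i _ => τ⁻¹ i) ?_ ?_ ?_
  · intro i hi
    rw [Finset.mem_filter] at hi ⊢
    refine ⟨Finset.mem_univ _, ?_⟩
    have h1 := hi.2
    rw [conj_pow] at h1
    rw [Perm.eq_inv_iff_eq]
    simpa [Perm.mul_apply] using h1
  · intro i _ j _ h
    exact τ⁻¹.injective h
  · intro i hi
    rw [Finset.mem_filter] at hi
    refine ⟨τ i, ?_, by simp⟩
    rw [Finset.mem_filter]
    refine ⟨Finset.mem_univ _, ?_⟩
    rw [conj_pow]
    simp [Perm.mul_apply, hi.2]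

/-- A lower bound for the number of classes of an almost simple group with alternating socle. -/
theorem classes_alt {n k : ℕ} (hn : 4 ≤ n) (h6 : n ≠ 6) (a : Fin k → alternatingGroup (Fin n))
    (ha : ∀ i j, i ≠ j → ∃ t, fixNum n (a i) t ≠ fixNum n (a j) t)
    (X : Subgroup (MulAut (alternatingGroup (Fin n))))
    (hX : (MulAut.conj : alternatingGroup (Fin n) →* MulAut (alternatingGroup (Fin n))).range ≤ X) :
    k ≤ Nat.card (ConjClasses X) := by
  let f : Fin k → ConjClasses X := fun i => ConjClasses.mk ⟨MulAut.conj (a i), hX ⟨a i, rfl⟩⟩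
  have hf : Function.Injective f := by
    intro i j h
    by_contra hij
    obtain ⟨t, ht⟩ := ha i j hij
    apply ht
    obtain ⟨c, hc⟩ := isConj_iff.1 (ConjClasses.mk_eq_mk_iff_isConj.1 h)
    obtain ⟨τ, hτ⟩ := (S2119.result n hn h6).2 (c : MulAut (alternatingGroup (Fin n)))
    have h1 : (c : MulAut (alternatingGroup (Fin n))) * MulAut.conj (a i) * (c : MulAut (alternatingGroup (Fin n)))⁻¹ =
        MulAut.conj (a j) := congrArg Subtype.val hc
    have h2 : MulAut.conj ((c : MulAut (alternatingGroup (Fin n))) (a i)) = MulAut.conj (a j) := by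
      rw [← h1]
      ext x
      simp [MulAut.conj_apply]
    have h3 : (c : MulAut (alternatingGroup (Fin n))) (a i) = a j := by
      have h4 : ((c : MulAut (alternatingGroup (Fin n))) (a i)) * (a j)⁻¹ ∈ Subgroup.center (alternatingGroup (Fin n)) := by
        rw [Subgroup.mem_center_iff]
        intro x
        have h5 : ((c : MulAut (alternatingGroup (Fin n))) (a i)) * ((a j)⁻¹ * x * a j) *
            ((c : MulAut (alternatingGroup (Fin n))) (a i))⁻¹ = x := by
          have := DFunLike.congr_fun h2 ((a j)⁻¹ * x * a j)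
          rw [MulAut.conj_apply, MulAut.conj_apply] at this
          rw [this]; group
        calc x * (((c : MulAut (alternatingGroup (Fin n))) (a i)) * (a j)⁻¹)
            = (((c : MulAut (alternatingGroup (Fin n))) (a i)) * ((a j)⁻¹ * x * a j) *
              ((c : MulAut (alternatingGroup (Fin n))) (a i))⁻¹) * (((c : MulAut (alternatingGroup (Fin n))) (a i)) * (a j)⁻¹) := by
              rw [h5]
          _ = _ := by group
      rw [alternatingGroup.center_eq_bot (by rw [Nat.card_eq_fintype_card, Fintype.card_fin]; omega),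
        Subgroup.mem_bot, mul_inv_eq_one] at h4
      exact h4
    rw [← h3, ← hτ, MulAut.conjNormal_apply, fixNum_conj]
  have h1 := Nat.card_le_card_of_injective f hf
  rwa [Nat.card_eq_fintype_card, Fintype.card_fin] at h1

/-- a product of two transpositions -/
def tt {n : ℕ} (a b c d : Fin n) (h : a ≠ b ∧ c ≠ d) : alternatingGroup (Fin n) :=
  ⟨swap a b * swap c d, by rw [Perm.mem_alternatingGroup, Perm.sign_mul, Perm.sign_swap h.1, Perm.sign_swap h.2]; rfl⟩

/-- representatives -/
def reps8 : Fin 9 → alternatingGroup (Fin 8) :=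
  ![1, tt 0 1 2 3 (by decide), tt 0 1 2 3 (by decide) * tt 4 5 6 7 (by decide), tt 0 1 1 2 (by decide),
    tt 0 1 1 2 (by decide) * tt 3 4 4 5 (by decide), tt 0 1 1 2 (by decide) * tt 2 3 4 5 (by decide),
    tt 0 1 1 2 (by decide) * tt 2 3 4 5 (by decide) * tt 5 6 6 7 (by decide),
    tt 0 1 1 2 (by decide) * tt 2 3 3 4 (by decide),
    tt 0 1 1 2 (by decide) * tt 2 3 3 4 (by decide) * tt 4 5 5 6 (by decide)]

theorem reps8_ne : ∀ i j : Fin 9, i ≠ j → fixNum 8 (reps8 i) 1 ≠ fixNum 8 (reps8 j) 1 ∨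
    fixNum 8 (reps8 i) 2 ≠ fixNum 8 (reps8 j) 2 := by decide +kernel

/-- the embedding of `A₇` in `A₈` -/
theorem exists_hom : ∃ f : alternatingGroup (Fin 7) →* alternatingGroup (Fin 8), Function.Injective f := by
  classical
  let e : Fin 7 ≃ {x : Fin 8 // x ∈ Set.range (Fin.castSucc : Fin 7 → Fin 8)} :=
    Equiv.ofInjective Fin.castSucc (Fin.castSucc_injective 7)
  let g : Perm (Fin 7) →* Perm (Fin 8) := Perm.extendDomainHom e
  have hg : Function.Injective g := Perm.extendDomainHom_injective e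
  refine ⟨(g.comp (alternatingGroup (Fin 7)).subtype).codRestrict (alternatingGroup (Fin 8)) (fun x => ?_), ?_⟩
  · rw [Perm.mem_alternatingGroup]
    have h1 : Perm.sign (Perm.extendDomain (x : Perm (Fin 7)) e) = Perm.sign (x : Perm (Fin 7)) :=
      Perm.sign_extendDomain _ _
    have h2 : Perm.sign (x : Perm (Fin 7)) = 1 := Perm.mem_alternatingGroup.1 x.2
    exact h1.trans h2
  · intro x y hxy
    apply Subtype.ext
    apply hg
    exact congrArg Subtype.val hxy

theorem rep_eight {p m : ℕ} (hp : p.Prime) (hpT : ¬ p ∣ Nat.card (alternatingGroup (Fin 8)))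
    (h : Rep.{0, w} p m (alternatingGroup (Fin 8))) : 4 ≤ m := by
  have hc7 := card_alt (n := 7) (by norm_num)
  obtain ⟨f, hf⟩ := exists_hom
  have hs : IsSimpleGroup (alternatingGroup (Fin 7)) :=
    alternatingGroup.isSimpleGroup (by rw [Nat.card_eq_fintype_card, Fintype.card_fin]; norm_num)
  have e8 : alternatingGroup (Fin 8) ≃* ULift.{w} (alternatingGroup (Fin 8)) := MulEquiv.ulift.symm
  have e7 : alternatingGroup (Fin 7) ≃* ULift.{w} (alternatingGroup (Fin 7)) := MulEquiv.ulift.symm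
  have hs' : IsSimpleGroup (ULift.{w} (alternatingGroup (Fin 7))) := e7.symm.isSimpleGroup
  have h' : Rep.{w, w} p m (ULift.{w} (alternatingGroup (Fin 8))) := h.congr e8
  have h1 := h'.sub (S := ULift.{w} (alternatingGroup (Fin 7))) (by
    intro hcomm
    have h2 : Subgroup.center (alternatingGroup (Fin 7)) = ⊤ := by
      rw [eq_top_iff]
      intro a _
      rw [Subgroup.mem_center_iff]
      intro b
      apply e7.injective
      rw [map_mul, map_mul]
      exact hcomm.is_comm.comm _ _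
    rw [center_alt (by norm_num)] at h2
    exact bot_ne_top h2) ((e8.toMonoidHom.comp f).comp e7.symm.toMonoidHom)
    (e8.injective.comp (hf.comp e7.symm.injective))
  refine rep_seven hp ?_ (h1.congr e7.symm)
  intro hd
  exact hpT (hd.trans (Subgroup.card_dvd_of_injective f hf))

theorem fine_eight : Cfsg.Agent.H223.Bnd.Bn.{0, w} (alternatingGroup (Fin 8)) := by
  have hf : Nat.factorial 8 = 40320 := by decide
  refine Cfsg.Agent.H223.Bnd.Bn.of_classes (k := 9) (fun X hX => classes_alt (by norm_num) (by norm_num) reps8 (fun i j hij => ?_) X hX)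
    fun p m hp h11 hpT hm hR => ?_
  · rcases reps8_ne i j hij with h | h
    exacts [⟨1, h⟩, ⟨2, h⟩]
  rw [card_aut (by norm_num) (by norm_num), hf]
  have h0 := rep_eight hp hpT hR
  have h1 : p ^ 4 ≤ p ^ m := Nat.pow_le_pow_right (by omega) h0
  refine lt_of_lt_of_le ?_ h1
  rcases Nat.lt_or_ge p 37 with h2 | h2
  · interval_cases p <;> omega
  · have h3 : 37 * 37 * 37 * p ≤ p ^ 4 := by
      rw [pow_succ, pow_succ, pow_succ, pow_one]
      exact Nat.mul_le_mul_right _ (Nat.mul_le_mul (Nat.mul_le_mul h2 h2) h2)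
    omega

/-! ### Degree 6 -/

/-- representatives -/
def reps6 : Fin 5 → alternatingGroup (Fin 6) :=
  ![1, tt 0 1 2 3 (by decide), tt 0 1 1 2 (by decide), tt 0 1 1 2 (by decide) * tt 2 3 4 5 (by decide),
    tt 0 1 1 2 (by decide) * tt 2 3 3 4 (by decide)]

theorem orderOf_reps6 : ∀ i : Fin 5, orderOf (reps6 i) = i + 1 := by
  have h1 : reps6 1 ^ 2 = 1 ∧ reps6 1 ≠ 1 := by decide +kernel
  have h2 : reps6 2 ^ 3 = 1 ∧ reps6 2 ≠ 1 := by decide +kernel
  have h3 : reps6 3 ^ 4 = 1 ∧ reps6 3 ^ 2 ≠ 1 := by decide +kernel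
  have h4 : reps6 4 ^ 5 = 1 ∧ reps6 4 ≠ 1 := by decide +kernel
  intro i
  fin_cases i
  · exact orderOf_one
  · have : Fact (Nat.Prime 2) := ⟨Nat.prime_two⟩
    exact orderOf_eq_prime h1.1 h1.2
  · have : Fact (Nat.Prime 3) := ⟨Nat.prime_three⟩
    exact orderOf_eq_prime h2.1 h2.2
  · have : Fact (Nat.Prime 2) := ⟨Nat.prime_two⟩
    exact orderOf_eq_prime_pow (p := 2) (n := 1) (by rw [pow_one]; exact h3.2) h3.1
  · have : Fact (Nat.Prime 5) := ⟨by norm_num⟩
    exact orderOf_eq_prime h4.1 h4.2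

/-- groups of order at most four are commutative -/
theorem comm_of_card {Q : Type*} [Group Q] [Finite Q] (h : Nat.card Q ≤ 4) : ∀ a b : Q, a * b = b * a := by
  have h0 : 0 < Nat.card Q := Nat.card_pos
  have key : ∀ r : ℕ, r.Prime → Nat.card Q = r → ∀ a b : Q, a * b = b * a := by
    intro r hr h1 a b
    have : Fact r.Prime := ⟨hr⟩
    have : IsCyclic Q := isCyclic_of_prime_card h1
    exact (IsCyclic.commGroup (α := Q)).mul_comm a b
  interval_cases h1 : Nat.card Q
  · intro a b
    have : Subsingleton Q := (Nat.card_eq_one_iff_unique.1 h1).1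
    exact Subsingleton.elim _ _
  · exact key 2 Nat.prime_two rfl
  · exact key 3 Nat.prime_three rfl
  · have : Fact (Nat.Prime 2) := ⟨Nat.prime_two⟩
    exact fun a b => (IsPGroup.commGroupOfCardEqPrimeSq (p := 2) (G := Q) (by rw [h1]; rfl)).mul_comm a b

theorem fine_six : Cfsg.Agent.H223.Bnd.Bn.{0, w} (alternatingGroup (Fin 6)) := by
  intro p m hp h23 hpT hm hR
  have h1 := Cfsg.Agent.H202.TwoTransAlt.card_mulAut_A6
  have h2 : 23 ^ 2 ≤ p ^ 2 := Nat.pow_le_pow_left h23 2
  have h3 : p ^ 2 ≤ p ^ (m - 1) := Nat.pow_le_pow_right (by omega) (by omega)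
  omega

/-- **The alternating groups.** -/
theorem fine_alt {T : Type u} [Group T] [Finite T] (h : Cfsg.IsAlternating T) : Cfsg.Agent.H223.Bnd.Bn.{u, u} T := by
  obtain ⟨n, hn, ⟨e⟩⟩ := h
  rcases Nat.lt_or_ge n 9 with h9 | h9
  · interval_cases n
    · exact fine_five.congr e.symm
    · exact fine_six.congr e.symm
    · exact fine_seven.congr e.symm
    · exact fine_eight.congr e.symm
  · exact (fine_big h9).congr e.symm

end Cfsg.Agent.H223.Bnd.H656.FineAlt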