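import Cfsg.Agent.H223.Bnd.Exc1T
import Cfsg.Agent.H203.LSG2
import Cfsg.Agent.H203.LSSz
import Cfsg.Agent.S2121
import Cfsg.Agent.S1059
import Cfsg.Agent.H867.TitsOut
import Cfsg.Agent.H226.Setup
import Cfsg.Agent.H707.RowTits
import Cfsg.Agent.H92.ExcTits
import Cfsg.Agent.H92.ExcG24
import Cfsg.Agent.H92.ExcThree
import Cfsg.Agent.H547.SelfCent.Tits
import Cfsg.Agent.H487.SchurPerfect
import Cfsg.Agent.S2115
import Cfsg.Agent.H223.Bnd.Base

/-!
helper762 (market task 768, for S4881): `Fine` for the Tits group, `G₂(3)` and (given `m ≥ 7`) `G₂(4)`.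
-/

set_option autoImplicit false

namespace Cfsg.Agent.H223.Bnd.H762.FineExc
open Cfsg Cfsg.Agent.H698 Cfsg.Agent.H92.KTools Cfsg.Agent.H223.Bnd.H762.FineTools Cfsg.Agent.H203.LS

universe u v w

/-! ### The Tits group -/

/-- the nontrivial projective representations of the Tits group have degree at least six -/
theorem ls_tits : LS.{0, v, w} 13 6 Lie.TitsGroup := by
  obtain ⟨-, hs, hna, hcard⟩ := S1074.result
  refine LS.of_core fun P _ π k _ _ V _ _ _ ρ h => ?_
  have hfin : Finite Lie.TitsGroup := Nat.finite_of_card_ne_zero (by rw [hcard]; norm_num)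
  have hperf : Group.IsPerfect Lie.TitsGroup := isPerfect hna
  obtain ⟨η, hη⟩ := H487.exists_lift_of_trivial hperf S2115.result (MonoidHom.id Lie.TitsGroup) h.surj h.cen
  have hη' : ∀ x, π (η x) = x := fun x => DFunLike.congr_fun hη x
  obtain ⟨x, t, j, hx13, hx1, htx, hjx⟩ := H547.SelfCent.TitsRow.exists_tits
  let f : Lie.TitsGroup → V →ₗ[k] V := fun g => ρ (η g)
  have fmul : ∀ a b v, f (a * b) v = f a (f b v) := fun a b v => by
    show ρ (η (a * b)) v = _
    rw [map_mul, map_mul]; rfl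
  have hne : f x ≠ 1 := h.ne_one (by rw [hη']; exact hx1)
  have hpow : f x ^ 13 = 1 := by
    show ρ (η x) ^ 13 = 1
    rw [← map_pow, ← map_pow, hx13, map_one, map_one]
  obtain ⟨s, hs1, v, hv0, hv⟩ := exists_eigen h.rk hpow hne
  have hfpow : ∀ (n : ℕ) (v : V) (c : k), f x v = c • v → f (x ^ n) v = c ^ n • v := by
    intro n v c hc
    induction n with
    | zero => simp [f]
    | succ n ih => rw [pow_succ, fmul, hc, map_smul, ih, smul_smul, pow_succ']
  have hs13 : s ^ 13 = 1 := by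
    have h1 := hfpow 13 v s hv
    rw [hx13] at h1
    have h2 : f 1 v = v := by simp [f]
    rw [h2] at h1
    have h3 : (s ^ 13 - 1) • v = 0 := by rw [sub_smul, one_smul, ← h1, sub_self]
    exact sub_eq_zero.1 ((smul_eq_zero.1 h3).resolve_right hv0)
  -- conjugating eigenvectors
  have hcj : ∀ (g : Lie.TitsGroup) (n : ℕ), g * x * g⁻¹ = x ^ n → ∀ (v : V) (c : k), f x v = c • v →
      f x (f g⁻¹ v) = c ^ n • f g⁻¹ v := by
    intro g n hg v c hc
    have e : x * g⁻¹ = g⁻¹ * x ^ n := by rw [← hg]; group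
    rw [← fmul, e, fmul, hfpow n v c hc, map_smul]
  have hinj : ∀ (g : Lie.TitsGroup) {v : V}, v ≠ 0 → f g v ≠ 0 := fun g v hv => h.ne_zero _ hv
  have hj12 : j * x * j⁻¹ = x ^ 12 := by
    rw [hjx, inv_eq_iff_mul_eq_one, ← pow_succ', hx13]
  have h13p : Nat.Prime 13 := by norm_num
  -- six eigenvalues
  let e : Fin 6 → ℕ := ![1, 3, 9, 12, 36, 108]
  have hvec : ∀ i : Fin 6, ∃ w : V, w ≠ 0 ∧ f x w = s ^ e i • w := by
    have a1 : ∃ w : V, w ≠ 0 ∧ f x w = s ^ 1 • w := ⟨v, hv0, by rw [pow_one]; exact hv⟩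
    have up3 : ∀ n, (∃ w : V, w ≠ 0 ∧ f x w = s ^ n • w) → ∃ w : V, w ≠ 0 ∧ f x w = s ^ (n * 3) • w := by
      rintro n ⟨w, hw, hw'⟩
      exact ⟨f t⁻¹ w, hinj _ hw, by rw [pow_mul]; exact hcj t 3 htx w _ hw'⟩
    have up12 : ∀ n, (∃ w : V, w ≠ 0 ∧ f x w = s ^ n • w) → ∃ w : V, w ≠ 0 ∧ f x w = s ^ (n * 12) • w := by
      rintro n ⟨w, hw, hw'⟩
      exact ⟨f j⁻¹ w, hinj _ hw, by rw [pow_mul]; exact hcj j 12 hj12 w _ hw'⟩
    have a3 := up3 1 a1
    have a9 := up3 _ a3
    intro i
    fin_cases i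
    · exact a1
    · exact a3
    · exact a9
    · exact up12 1 a1
    · exact up12 _ a3
    · exact up12 _ a9
  choose w hw0 hw using hvec
  have key := card_le_of_weights (k := k) (J := Unit) (fun _ => f x) w (fun i _ => s ^ e i) hw0 (fun i _ => hw i) (by
    intro a b hab
    have h1 : s ^ e a = s ^ e b := congrFun hab ()
    have hord : orderOf s = 13 := by
      have : Fact (Nat.Prime 13) := ⟨h13p⟩
      exact orderOf_eq_prime hs13 hs1
    have hprim : IsPrimitiveRoot s 13 := by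
      rw [← hord]
      exact IsPrimitiveRoot.orderOf s
    rw [pow_eq_pow_mod (e a) hs13, pow_eq_pow_mod (e b) hs13] at h1
    have h2 := hprim.pow_inj (Nat.mod_lt _ (by norm_num)) (Nat.mod_lt _ (by norm_num)) h1
    clear hab h1
    revert a b
    decide)
  simpa using key

theorem fine_tits_aux {T : Type v} [Group T] [Finite T] [IsSimpleGroup T] (hna : ¬ IsMulCommutative T)
    (hcard : Nat.card T = 2 ^ 11 * 3 ^ 3 * 5 ^ 2 * 13) (hout : Nat.card (Out T) ≤ 2) (h16 : HasOrd T 16)
    (h12 : HasOrd T 12) (h10 : HasOrd T 10) (hLS : LS.{v, w, w} 13 6 T) : Cfsg.Agent.H223.Bnd.Bn.{v, w} T := by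
  have hc := center_bot hna
  have h13 : HasOrd T 13 := hasOrd_prime (by norm_num) (by rw [hcard]; norm_num)
  have hA : Nat.card (MulAut T) ≤ 35942400 := by
    rw [card_aut hna, hcard]
    calc 2 ^ 11 * 3 ^ 3 * 5 ^ 2 * 13 * Nat.card (Out T) ≤ 2 ^ 11 * 3 ^ 3 * 5 ^ 2 * 13 * 2 :=
          Nat.mul_le_mul_left _ hout
      _ = 35942400 := by norm_num
  refine Cfsg.Agent.H223.Bnd.Bn.of_twentythree (d := 5) (fun p m hp h23 hpT hm hR => ?_) (hA.trans (by norm_num))
  exact Rep.le_of_LS hp (by norm_num : Nat.Prime 13) (by rw [hcard]; norm_num) hpT hR hLS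

set_option maxRecDepth 100000 in
theorem ho16 : HasOrd Lie.TitsGroup 16 := H92.ExcTits.hasOrd_tits (by decide) (by decide) H92.ExcTits.t16

set_option maxRecDepth 100000 in
theorem ho12 : HasOrd Lie.TitsGroup 12 := H92.ExcTits.hasOrd_tits (by decide) (by decide) H92.ExcTits.t12

set_option maxRecDepth 100000 in
theorem ho10 : HasOrd Lie.TitsGroup 10 := H92.ExcTits.hasOrd_tits (by decide) (by decide) H92.ExcTits.t10

theorem fine_tits {T : Type v} [Group T] (h : Lie.IsoTits T) : Cfsg.Agent.H223.Bnd.Bn.{v, w} T := by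
  have hcard : Nat.card T = 2 ^ 11 * 3 ^ 3 * 5 ^ 2 * 13 := by
    rw [H707.RowTits.card_eq h]; norm_num
  have hfin : Finite T := Nat.finite_of_card_ne_zero (by rw [hcard]; norm_num)
  have hs : IsSimpleGroup T := H226.Setup.simple_tits h
  have hna : ¬ IsMulCommutative T := not_comm (by rw [hcard]; norm_num)
  have hout := H867.TitsOut.card_out_le h
  obtain ⟨e⟩ := h
  exact fine_tits_aux hna hcard hout (ho16.of_equiv e.symm) (ho12.of_equiv e.symm)
    (ho10.of_equiv e.symm) (LS.congr (T := Lie.TitsGroup) e.symm ls_tits.{w, w})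

/-! ### `G₂(3)` -/

theorem fine_g2_three {F : Type v} [Field F] [Fintype F] (hF : Fintype.card F = 3) :
    Cfsg.Agent.H223.Bnd.Bn.{v, w} ↥(Lie.chevG2.group F) := by
  have hF' : Nat.card F = 3 := by rw [Nat.card_eq_fintype_card, hF]
  have hfact : Fact (Nat.Prime 3) := ⟨Nat.prime_three⟩
  have hchar : CharP F 3 := charP_of_card (n := 1) Nat.prime_three (by rw [hF]; norm_num)
  obtain ⟨hs, hna⟩ := S1055.result (F := F) (by
    refine ⟨2, ?_, ?_⟩
    · intro h
      have h1 : ((2 : ℕ) : F) = 0 := by exact_mod_cast h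
      rw [CharP.cast_eq_zero_iff F 3] at h1
      norm_num at h1
    · intro h
      exact one_ne_zero (α := F) (by linear_combination h))
  have hT : Nat.card ↥(Lie.chevG2.group F) = 4245696 := by rw [S1059.result hF]; norm_num
  have hA : Nat.card (MulAut ↥(Lie.chevG2.group F)) = 8491392 := by
    rw [card_aut hna, hT, S2121.result (F := F) 3 1 (by rw [hF]; norm_num) (by norm_num)]
    norm_num
  have hLS := H203.LS.G2.ls.{v, w, w} (r := 3) F (by rw [hF']; norm_num) (by rw [hF']; norm_num)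
  rw [hF'] at hLS
  have hc := center_bot hna
  -- element orders
  have h : Fintype.card F = Fintype.card (ZMod 3) := by rw [hF, ZMod.card]
  let e2 : F ≃+* ZMod 3 := FiniteField.ringEquivOfCardEq h
  let e3 := ChevalleyStructure.FieldIso.groupEquiv Lie.chevG2 e2
  have key : ∀ {x : GL Lie.chevG2.Idx (ZMod 3)} (_ : x ∈ Lie.chevG2.group (ZMod 3)) {n : ℕ}, orderOf x = n →
      HasOrd ↥(Lie.chevG2.group F) n := by
    intro x hx n hn
    have h1 : HasOrd ↥(Lie.chevG2.group (ZMod 3)) n :=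
      ⟨⟨x, hx⟩, by rw [← hn]; exact (orderOf_injective (Subgroup.subtype _) (Subgroup.subtype_injective _) ⟨x, hx⟩).symm⟩
    exact h1.of_equiv e3.symm
  have h13 : HasOrd ↥(Lie.chevG2.group F) 13 := hasOrd_prime (by norm_num) (by rw [hT]; norm_num)
  have h7 : HasOrd ↥(Lie.chevG2.group F) 7 := hasOrd_prime (by norm_num) (by rw [hT]; norm_num)
  have h8 : HasOrd ↥(Lie.chevG2.group F) 8 := key
    (mul_mem (mul_mem (ChevalleyStructure.Elts.xG_mem_group H92.ExcThree.hG2 _ _) (ChevalleyStructure.Elts.xG_mem_group H92.ExcThree.hG2 _ _))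
      (ChevalleyStructure.Elts.hG_mem_group H92.ExcThree.hG2 _ _))
    (H92.ExcThree.orderOf_eight H92.ExcThree.hG2 (i := 0) (j := 1) (t := 7) (by decide) (by decide) (by decide)
      (by decide) (by decide) (by decide) (by decide) (by decide) (by decide))
  have h12 : HasOrd ↥(Lie.chevG2.group F) 12 := by
    have ha : orderOf (ChevalleyStructure.Elts.xG H92.ExcThree.hG2 11 (1 : ZMod 3)) = 3 :=
      H92.ExcOrd.orderOf_xG H92.ExcThree.hG2 (by decide) 3
    have ht : orderOf (ChevalleyStructure.Elts.nG H92.ExcThree.hG2 7 (1 : ZMod 3)) = 4 :=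
      H92.ExcThree.ord_wel (i := 0) (t := 6) (by decide) (by decide) (by decide) (by decide) rfl
    refine key (x := ChevalleyStructure.Elts.xG H92.ExcThree.hG2 11 1 * ChevalleyStructure.Elts.nG H92.ExcThree.hG2 7 1)
      (mul_mem (ChevalleyStructure.Elts.xG_mem_group H92.ExcThree.hG2 _ _) (ChevalleyStructure.Elts.nG_mem_group H92.ExcThree.hG2 _ _)) ?_
    rw [(H92.ExcThree.com_wel (by decide) (by decide) (by decide)).orderOf_mul_eq_mul_orderOf_of_coprime
      (by rw [ha, ht]; decide), ha, ht]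
  refine Cfsg.Agent.H223.Bnd.Bn.of_classes (k := 8) ?_ ?_
  · have := classes_of_orders hc {1, 2, 3, 4, 6, 7, 8, 12, 13} (by
      simp only [Finset.mem_insert, Finset.mem_singleton, forall_eq_or_imp, forall_eq]
      exact ⟨hasOrd_one _, h12.of_dvd (by norm_num) (by norm_num), h12.of_dvd (by norm_num) (by norm_num),
        h12.of_dvd (by norm_num) (by norm_num), h12.of_dvd (by norm_num) (by norm_num), h7, h8, h12, h13⟩)
    intro X hX
    exact le_trans (by decide) (this X hX)
  · intro p m hp h11 hpT hm hR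
    have h6 := Rep.le_of_LS hp Nat.prime_three (by rw [hT]; norm_num) hpT hR hLS
    have h1 : p ^ 6 ≤ p ^ m := Nat.pow_le_pow_right (by omega) (by omega)
    rw [hA]
    have h13' : p ≠ 13 := by
      rintro rfl
      exact hpT (by rw [hT]; norm_num)
    have h3 : (p + 1 - 2 * 8) * 8491392 + 1 < p ^ 6 := by
      by_cases h37 : 25 ≤ p
      · have h4 : 25 ^ 5 ≤ p ^ 5 := Nat.pow_le_pow_left h37 5
        have h5 : (p + 1 - 2 * 8) * 8491392 ≤ (p - 15) * p ^ 5 := by
          have e : p + 1 - 2 * 8 = p - 15 := by omega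
          rw [e]
          exact Nat.mul_le_mul_left _ (le_trans (by norm_num) h4)
        have h7 : (p - 15) * p ^ 5 + 15 * p ^ 5 = p ^ 6 := by
          rw [← add_mul, Nat.sub_add_cancel (by omega)]; ring
        omega
      · have h38 : p < 25 := by omega
        clear h1 hR hpT hp h6
        interval_cases p <;> norm_num
    omega

/-! ### `G₂(4)` -/

theorem fine_g2_four {F : Type v} [Field F] [Fintype F] (hF : Fintype.card F = 4)
    (h7 : ∀ p m : ℕ, p.Prime → 11 ≤ p → ¬ p ∣ Nat.card ↥(Lie.chevG2.group F) → 3 ≤ m →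
      Rep.{v, w} p m ↥(Lie.chevG2.group F) → 7 ≤ m) :
    Cfsg.Agent.H223.Bnd.Bn.{v, w} ↥(Lie.chevG2.group F) := by
  have hF' : Nat.card F = 4 := by rw [Nat.card_eq_fintype_card, hF]
  have hfact : Fact (Nat.Prime 2) := ⟨Nat.prime_two⟩
  have hchar : CharP F 2 := charP_of_card (n := 2) Nat.prime_two (by rw [hF]; norm_num)
  obtain ⟨hs, hna⟩ := S1055.result (F := F) (by
    classical
    by_contra hcon
    push Not at hcon
    have h1 : (Finset.univ : Finset F) ⊆ {0, 1} := by
      intro x _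
      simp only [Finset.mem_insert, Finset.mem_singleton]
      by_cases hx : x = 0
      · exact Or.inl hx
      · exact Or.inr (hcon x hx)
    have h2 := Finset.card_le_card h1
    have h3 : ({0, 1} : Finset F).card ≤ 2 := Finset.card_le_two
    rw [Finset.card_univ] at h2
    omega)
  have hT : Nat.card ↥(Lie.chevG2.group F) = 251596800 := by rw [S1059.result hF]; norm_num
  have hA : Nat.card (MulAut ↥(Lie.chevG2.group F)) = 503193600 := by
    rw [card_aut hna, hT, S2121.result (F := F) 2 2 (by rw [hF]; norm_num) (by norm_num)]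
    norm_num
  have hc := center_bot hna
  have h : Fintype.card SporRec.GF4.F4 = Fintype.card F := by rw [show Fintype.card SporRec.GF4.F4 = 4 from rfl, hF]
  let e : SporRec.GF4.F4 ≃+* F := FiniteField.ringEquivOfCardEq h
  let e3 := ChevalleyStructure.FieldIso.groupEquiv Lie.chevG2 e
  have ho : ∀ {n : ℕ}, HasOrd SporRec.G24Mat.Gp n → HasOrd ↥(Lie.chevG2.group F) n := fun h => h.of_equiv e3
  have h8 := ho (H92.ExcG24.hasOrd H92.ExcG24.o8)
  have h10 := ho (H92.ExcG24.hasOrd H92.ExcG24.o10)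
  have h12 := ho (H92.ExcG24.hasOrd H92.ExcG24.o12)
  have h13 := ho (H92.ExcG24.hasOrd H92.ExcG24.o13)
  have h15 := ho (H92.ExcG24.hasOrd H92.ExcG24.o15)
  have h21 := ho (H92.ExcG24.hasOrd H92.ExcG24.o21)
  refine Cfsg.Agent.H223.Bnd.Bn.of_twentythree (d := 6) (fun p m hp h23 hpT hm hR => ?_) (hA.le.trans (by norm_num))
  exact h7 p m hp (by omega) hpT hm hR

end Cfsg.Agent.H223.Bnd.H762.FineExc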