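import Cfsg.Agent.H698.Fine
import Cfsg.Agent.H489.OutExc
import Cfsg.Agent.H656.LSF4two
import Cfsg.Agent.H656.LSTwE6
import Cfsg.Agent.H203.LSF4even
import Cfsg.Agent.H203.LSF4odd
import Cfsg.Agent.H203.LSE6
import Cfsg.Agent.H203.LSE7
import Cfsg.Agent.H203.LSE8
import Cfsg.Agent.H934.OutB
import Cfsg.Agent.H223.Bnd.Base

/-!
# `Fine` for `F₄(q)`, `E₆(q)`, `E₇(q)`, `E₈(q)` and `²E₆(q)`

`fine_exc2` : the groups of Lie type `F₄`, `E₆`, `E₇`, `E₈`, `²E₆` satisfy the numerical condition `Fine`.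
-/

set_option autoImplicit false

universe u w

namespace Cfsg.Agent.H223.Bnd.H656.FineExc2
open Cfsg.Lie Cfsg.Agent.H698

/-- the criterion -/
theorem fine_of_ls {T : Type u} [Group T] [Finite T] [IsSimpleGroup T] (hna : ¬ IsMulCommutative T) {r N E q : ℕ}
    (hr : r.Prime) (hrT : r ∣ Nat.card T) (hLS : Cfsg.Agent.H203.LS.LS.{u, w, w} r N T) (hq : 2 ≤ q)
    (hc : Nat.card (MulAut T) ≤ q ^ E) (hN : E * (q - 1) + 3 ≤ 3 * N) : Cfsg.Agent.H223.Bnd.Bn.{u, w} T := by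
  have hcen : Subgroup.center T = ⊥ := by
    rcases IsSimpleGroup.eq_bot_or_eq_top_of_normal (Subgroup.center T) inferInstance with h | h
    · exact h
    · exfalso
      apply hna
      refine ⟨⟨fun a b => ?_⟩⟩
      have h1 : b ∈ Subgroup.center T := by rw [h]; exact Subgroup.mem_top b
      exact Subgroup.mem_center_iff.1 h1 a
  have hT : 1 < Nat.card T := Finite.one_lt_card
  refine Cfsg.Agent.H223.Bnd.Bn.of_eleven hcen hT (d := N - 1) (fun p m hp _ hpT _ hR => ?_) ?_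
  · have h := hR.le_of_LS hp hr hrT hpT hLS
    omega
  · have h1 : q ≤ 2 ^ (q - 1) := by
      have := Nat.lt_two_pow_self (n := q - 1)
      omega
    calc Nat.card (MulAut T) ≤ q ^ E := hc
      _ ≤ (2 ^ (q - 1)) ^ E := Nat.pow_le_pow_left h1 E
      _ = 2 ^ ((q - 1) * E) := (pow_mul _ _ _).symm
      _ ≤ 2 ^ (3 * (N - 1)) := Nat.pow_le_pow_right (by norm_num) (by rw [mul_comm (q - 1)]; omega)
      _ = 8 ^ (N - 1) := by rw [pow_mul]; norm_num
      _ ≤ 11 ^ (N - 1) := Nat.pow_le_pow_left (by norm_num) _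

/-- the order of the automorphism group -/
theorem card_aut {T : Type u} [Group T] [Finite T] [IsSimpleGroup T] (hna : ¬ IsMulCommutative T) {o g B : ℕ}
    (ho : Nat.card (Cfsg.Out T) ≤ o * g) (hg : g * Nat.card T ≤ B) : Nat.card (MulAut T) ≤ o * B := by
  rw [← Cfsg.Agent.H934.OutB.card_out_mul T hna]
  calc Nat.card (Cfsg.Out T) * Nat.card T ≤ o * g * Nat.card T := Nat.mul_le_mul_right _ ho
    _ = o * (g * Nat.card T) := mul_assoc _ _ _
    _ ≤ o * B := Nat.mul_le_mul_left _ hg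

theorem dvd_of {r q g c : ℕ} (hr : r.Prime) (hrq : r ∣ q) (hg : ¬ r ∣ g) {B : ℕ} (h : g * c = B) (hB : q ∣ B) :
    r ∣ c := by
  have h1 : r ∣ g * c := by rw [h]; exact hrq.trans hB
  exact (hr.dvd_mul.1 h1).resolve_left hg

theorem not_dvd_gcd {r q a : ℕ} (hr : r.Prime) (hrq : r ∣ q) (hq : 1 ≤ q) : ¬ r ∣ Nat.gcd a (q - 1) := by
  intro h
  have h1 := h.trans (Nat.gcd_dvd_right _ _)
  have h2 := (Nat.dvd_sub hrq h1)
  rw [show q - (q - 1) = 1 by omega] at h2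
  exact hr.one_lt.ne' (Nat.dvd_one.1 h2)

theorem not_dvd_gcd' {r q a : ℕ} (hr : r.Prime) (hrq : r ∣ q) : ¬ r ∣ Nat.gcd a (q + 1) := by
  intro h
  have h1 := h.trans (Nat.gcd_dvd_right _ _)
  have h2 := (Nat.dvd_sub h1 hrq)
  rw [show q + 1 - q = 1 by omega] at h2
  exact hr.one_lt.ne' (Nat.dvd_one.1 h2)

/-- `LS` for `F₄(q)`, `q > 2` -/
theorem ls_f4 {r : ℕ} (F : Type) [Field F] [Fintype F] [CharP F r] (hF : 2 < Nat.card F) :
    Cfsg.Agent.H203.LS.LS.{0, w, w} r ((Nat.card F - 1) * Nat.card F ^ 4) (chevF4.group F) := by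
  by_cases h2 : (2 : F) = 0
  · exact Cfsg.Agent.H203.LS.F4even.ls_even F h2 hF
  · exact Cfsg.Agent.H203.LS.F4odd.ls_odd F h2

theorem fine_f4_two (F : Type) [Field F] [Fintype F] (hF : Nat.card F = 2) : Cfsg.Agent.H223.Bnd.Bn.{0, w} (chevF4.group F) := by
  obtain ⟨hs, hna⟩ := Cfsg.Agent.S1054.result (F := F) chevF4 (by simp)
  have hF' : Fintype.card F = 2 := by rw [← Nat.card_eq_fintype_card]; exact hF
  have : Fact (Nat.Prime 2) := ⟨Nat.prime_two⟩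
  have : CharP F 2 := H489.charP_of Nat.prime_two (f := 1) le_rfl (by rw [hF', pow_one])
  have hcT : Nat.card ↥(chevF4.group F) = 3311126603366400 := by
    rw [S1062.result (F := F) hF']
    norm_num
  have hfin : Finite ↥(chevF4.group F) := Nat.finite_of_card_ne_zero (by omega)
  have ho := S2122.result 2 1 (F := F) (by rw [hF', pow_one])
  have hA : Nat.card (MulAut ↥(chevF4.group F)) = 6622253206732800 := by
    rw [← Cfsg.Agent.H934.OutB.card_out_mul ↥(chevF4.group F) hna, ho, hcT]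
    norm_num
  have hcen : Subgroup.center ↥(chevF4.group F) = ⊥ := by
    rcases IsSimpleGroup.eq_bot_or_eq_top_of_normal (Subgroup.center ↥(chevF4.group F)) inferInstance with h | h
    · exact h
    · exfalso
      apply hna
      refine ⟨⟨fun a b => ?_⟩⟩
      have h1 : b ∈ Subgroup.center ↥(chevF4.group F) := by rw [h]; exact Subgroup.mem_top b
      exact Subgroup.mem_center_iff.1 h1 a
  refine Cfsg.Agent.H223.Bnd.Bn.of_lt7 hcen (by rw [hcT]; norm_num) fun p m hp h11 hpT _ hR => ?_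
  have hm := hR.le_of_LS hp Nat.prime_two (by rw [hcT]; norm_num) hpT (Cfsg.Agent.H656.LSF4two.ls hF)
  rw [hA]
  rcases Nat.lt_or_ge 13 p with h13 | h13
  · have h1 : 14 ^ 14 ≤ p ^ 14 := Nat.pow_le_pow_left h13 14
    have h2 : p ^ 15 ≤ p ^ m := Nat.pow_le_pow_right (by omega) hm
    have h3 : (p - 13) * 6622253206732800 ≤ (p - 13) * p ^ 14 := Nat.mul_le_mul_left _ (le_trans (by norm_num) h1)
    have h4 : (p - 13) * p ^ 14 + 13 * p ^ 14 = p ^ 15 := by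
      rw [← add_mul, pow_succ p 14, mul_comm (p ^ 14)]
      congr 1
      omega
    have h5 : 0 < p ^ 14 := Nat.pow_pos (by omega)
    omega
  · rw [show p - 13 = 0 by omega, zero_mul, zero_add]
    exact Nat.one_lt_pow (by omega) (by omega)

/-- **`F₄(q)`** -/
theorem fine_f4 {T : Type u} [Group T] (h : IsoF4 T) : Cfsg.Agent.H223.Bnd.Bn.{u, w} T := by
  obtain ⟨F, _, _, ⟨e⟩⟩ := h
  refine Cfsg.Agent.H223.Bnd.Bn.congr ?_ e.symm
  obtain ⟨p, f, hp, hf, hF, h2f, hq⟩ := H489.exists_pf F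
  rcases Nat.lt_or_ge 2 (Fintype.card F) with h3 | h3
  swap
  · exact fine_f4_two F (by rw [Nat.card_eq_fintype_card]; omega)
  have : Fact p.Prime := ⟨hp⟩
  have := H489.charP_of hp hf hF
  obtain ⟨hs, hna⟩ := Cfsg.Agent.S1054.result (F := F) chevF4 (by simp)
  have hcT := S1062.result (F := F) rfl
  have ho := S2122.result p f hF
  have hpq : p ∣ Fintype.card F := by rw [hF]; exact dvd_pow_self p (by omega)
  have hls := ls_f4.{w} (r := p) F (by rw [Nat.card_eq_fintype_card]; exact h3)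
  rw [Nat.card_eq_fintype_card] at hls
  have hA : 4 ≤ Fintype.card F ∨ Fintype.card F = 3 := by omega
  set q := Fintype.card F
  have hdv : p ∣ Nat.card ↥(chevF4.group F) := by
    rw [hcT]
    exact hpq.trans (by repeat (first | exact dvd_pow_self _ (by norm_num) | apply Dvd.dvd.mul_right))
  have hle : 1 * Nat.card ↥(chevF4.group F) ≤ q ^ 52 := by
    rw [hcT]
    calc 1 * (q ^ 24 * (q ^ 2 - 1) * (q ^ 6 - 1) * (q ^ 8 - 1) * (q ^ 12 - 1))
        ≤ 1 * (q ^ 24 * q ^ 2 * q ^ 6 * q ^ 8 * q ^ 12) := by gcongr <;> exact Nat.sub_le _ _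
      _ = q ^ 52 := by ring
  have hfin : Finite ↥(chevF4.group F) := inferInstance
  refine fine_of_ls hna hp hdv hls hq (E := 53) ?_ ?_
  · refine (card_aut hna (o := q) (g := 1) ?_ hle).trans (by ring_nf; rfl)
    rw [ho, mul_one]
    exact (Nat.mul_le_mul_right _ (Nat.gcd_le_left _ (by norm_num))).trans h2f
  · have h4 : 3 ^ 4 ≤ q ^ 4 := Nat.pow_le_pow_left h3 4
    have h5 : (q - 1) * 3 ^ 4 ≤ (q - 1) * q ^ 4 := Nat.mul_le_mul_left _ h4
    omega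

/-- the numerical condition -/
theorem num {q k E : ℕ} (hq : 2 ≤ q) (hE : E + 3 ≤ 3 * 2 ^ k) : E * (q - 1) + 3 ≤ 3 * ((q - 1) * q ^ k) := by
  have h4 : 2 ^ k ≤ q ^ k := Nat.pow_le_pow_left hq k
  have h5 : (q - 1) * (E + 3) ≤ (q - 1) * (3 * q ^ k) := Nat.mul_le_mul_left _ (hE.trans (by omega))
  have h6 : (q - 1) * (E + 3) = E * (q - 1) + 3 * (q - 1) := by ring
  have h7 : (q - 1) * (3 * q ^ k) = 3 * ((q - 1) * q ^ k) := by ring
  omega

/-- **`E₆(q)`** -/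
theorem fine_e6 {T : Type u} [Group T] (h : IsoChevE6 T) : Cfsg.Agent.H223.Bnd.Bn.{u, w} T := by
  obtain ⟨F, _, _, ⟨e⟩⟩ := h
  refine Cfsg.Agent.H223.Bnd.Bn.congr ?_ e.symm
  obtain ⟨p, f, hp, hf, hF, h2f, hq⟩ := H489.exists_pf F
  have : Fact p.Prime := ⟨hp⟩
  have := H489.charP_of hp hf hF
  obtain ⟨hs, hna⟩ := Cfsg.Agent.S1054.result (F := F) chevE6 (by simp)
  have hcT := S1063.result (F := F) rfl
  have ho := S2123.result p f hF
  rw [← hF] at ho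
  have hpq : p ∣ Fintype.card F := by rw [hF]; exact dvd_pow_self p (by omega)
  have hls := Cfsg.Agent.H203.LS.E6.ls.{0, w, w} (r := p) F
  rw [Nat.card_eq_fintype_card] at hls
  set q := Fintype.card F
  have hdv : p ∣ Nat.card ↥(chevE6.group F) := by
    refine dvd_of hp hpq (not_dvd_gcd hp hpq (by omega)) hcT ?_
    repeat (first | exact dvd_pow_self _ (by norm_num) | apply Dvd.dvd.mul_right)
  have hle : Nat.gcd 3 (q - 1) * Nat.card ↥(chevE6.group F) ≤ q ^ 78 := by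
    rw [hcT]
    calc q ^ 36 * (q ^ 2 - 1) * (q ^ 5 - 1) * (q ^ 6 - 1) * (q ^ 8 - 1) * (q ^ 9 - 1) * (q ^ 12 - 1)
        ≤ q ^ 36 * q ^ 2 * q ^ 5 * q ^ 6 * q ^ 8 * q ^ 9 * q ^ 12 := by gcongr <;> exact Nat.sub_le _ _
      _ = q ^ 78 := by ring
  have hfin : Finite ↥(chevE6.group F) := inferInstance
  refine fine_of_ls hna hp hdv hls hq (E := 79) ?_ (num hq (by norm_num))
  refine (card_aut hna (o := q) ?_ hle).trans (by ring_nf; rfl)
  rw [ho]
  calc 2 * Nat.gcd 3 (q - 1) * f = 2 * f * Nat.gcd 3 (q - 1) := by ring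
    _ ≤ q * Nat.gcd 3 (q - 1) := Nat.mul_le_mul_right _ h2f

/-- **`E₇(q)`** -/
theorem fine_e7 {T : Type u} [Group T] (h : IsoE7 T) : Cfsg.Agent.H223.Bnd.Bn.{u, w} T := by
  obtain ⟨F, _, _, ⟨e⟩⟩ := h
  refine Cfsg.Agent.H223.Bnd.Bn.congr ?_ e.symm
  obtain ⟨p, f, hp, hf, hF, h2f, hq⟩ := H489.exists_pf F
  have : Fact p.Prime := ⟨hp⟩
  have := H489.charP_of hp hf hF
  obtain ⟨hs, hna⟩ := Cfsg.Agent.S1054.result (F := F) chevE7 (by simp)
  have hcT := S1064.result (F := F) rfl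
  have ho := S2124.result p f hF
  rw [← hF] at ho
  have hpq : p ∣ Fintype.card F := by rw [hF]; exact dvd_pow_self p (by omega)
  have hls := Cfsg.Agent.H203.LS.E7.ls.{0, w, w} (r := p) F
  rw [Nat.card_eq_fintype_card] at hls
  set q := Fintype.card F
  have hdv : p ∣ Nat.card ↥(chevE7.group F) := by
    refine dvd_of hp hpq (not_dvd_gcd hp hpq (by omega)) hcT ?_
    repeat (first | exact dvd_pow_self _ (by norm_num) | apply Dvd.dvd.mul_right)
  have hle : Nat.gcd 2 (q - 1) * Nat.card ↥(chevE7.group F) ≤ q ^ 133 := by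
    rw [hcT]
    calc q ^ 63 * (q ^ 2 - 1) * (q ^ 6 - 1) * (q ^ 8 - 1) * (q ^ 10 - 1) * (q ^ 12 - 1) * (q ^ 14 - 1) * (q ^ 18 - 1)
        ≤ q ^ 63 * q ^ 2 * q ^ 6 * q ^ 8 * q ^ 10 * q ^ 12 * q ^ 14 * q ^ 18 := by
          gcongr <;> exact Nat.sub_le _ _
      _ = q ^ 133 := by ring
  have hfin : Finite ↥(chevE7.group F) := inferInstance
  refine fine_of_ls hna hp hdv hls hq (E := 134) ?_ (num hq (by norm_num))
  refine (card_aut hna (o := q) ?_ hle).trans (by ring_nf; rfl)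
  rw [ho]
  calc Nat.gcd 2 (q - 1) * f = f * Nat.gcd 2 (q - 1) := by ring
    _ ≤ q * Nat.gcd 2 (q - 1) := Nat.mul_le_mul_right _ (by omega)

/-- **`E₈(q)`** -/
theorem fine_e8 {T : Type u} [Group T] (h : IsoE8 T) : Cfsg.Agent.H223.Bnd.Bn.{u, w} T := by
  obtain ⟨F, _, _, ⟨e⟩⟩ := h
  refine Cfsg.Agent.H223.Bnd.Bn.congr ?_ e.symm
  obtain ⟨p, f, hp, hf, hF, h2f, hq⟩ := H489.exists_pf F
  have : Fact p.Prime := ⟨hp⟩
  have := H489.charP_of hp hf hF
  obtain ⟨hs, hna⟩ := Cfsg.Agent.S1054.result (F := F) chevE8 (by simp)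
  have hcT := S1065.result (F := F) rfl
  have ho := S2125.result p f hF
  have hpq : p ∣ Fintype.card F := by rw [hF]; exact dvd_pow_self p (by omega)
  have hls := Cfsg.Agent.H203.LS.E8.ls.{0, w, w} (r := p) F
  rw [Nat.card_eq_fintype_card] at hls
  set q := Fintype.card F
  have hdv : p ∣ Nat.card ↥(chevE8.group F) := by
    rw [hcT]
    exact hpq.trans (by repeat (first | exact dvd_pow_self _ (by norm_num) | apply Dvd.dvd.mul_right))
  have hle : 1 * Nat.card ↥(chevE8.group F) ≤ q ^ 248 := by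
    rw [hcT]
    calc 1 * (q ^ 120 * (q ^ 2 - 1) * (q ^ 8 - 1) * (q ^ 12 - 1) * (q ^ 14 - 1) * (q ^ 18 - 1) * (q ^ 20 - 1) *
          (q ^ 24 - 1) * (q ^ 30 - 1))
        ≤ 1 * (q ^ 120 * q ^ 2 * q ^ 8 * q ^ 12 * q ^ 14 * q ^ 18 * q ^ 20 * q ^ 24 * q ^ 30) := by
          gcongr <;> exact Nat.sub_le _ _
      _ = q ^ 248 := by ring
  have hfin : Finite ↥(chevE8.group F) := inferInstance
  refine fine_of_ls hna hp hdv hls hq (E := 249) ?_ (num hq (by norm_num))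
  refine (card_aut hna (o := q) (g := 1) ?_ hle).trans (by ring_nf; rfl)
  rw [ho, mul_one]
  omega

/-- **`²E₆(q)`** -/
theorem fine_2e6 {T : Type u} [Group T] (h : Iso2E6 T) : Cfsg.Agent.H223.Bnd.Bn.{u, w} T := by
  obtain ⟨K, _, _, q, hqp, hK, ⟨e⟩⟩ := h
  refine Cfsg.Agent.H223.Bnd.Bn.congr ?_ e.symm
  obtain ⟨p, f, hp, hc, hf, hqf, hKf, h2f, hq⟩ := H489.exists_pf_of hqp hK (by norm_num)
  have : Fact p.Prime := ⟨hp⟩
  obtain ⟨hs, hna⟩ := Cfsg.Agent.S1070.result hqp hK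
  have hcT := S1066.result hqp hK
  have ho := S2130.result p f hKf hf
  rw [← hqf] at ho
  have hpq : p ∣ q := by rw [hqf]; exact dvd_pow_self p (by omega)
  have hls := Cfsg.Agent.H656.LSTwE6.ls.{0, w, w} (r := p) hqp hK
  have hdv : p ∣ Nat.card ↥(twistedE6 K q) := by
    refine dvd_of hp hpq (not_dvd_gcd' hp hpq) hcT ?_
    repeat (first | exact dvd_pow_self _ (by norm_num) | apply Dvd.dvd.mul_right)
  have h1 : (q ^ 2 - 1) * (q ^ 5 + 1) ≤ q ^ 7 := by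
    have e1 : (q ^ 2 - 1) * (q ^ 5 + 1) + (q ^ 5 + 1) = q ^ 2 * (q ^ 5 + 1) := by
      rw [← Nat.succ_mul]
      congr 1
      have : 0 < q ^ 2 := Nat.pow_pos (by omega)
      omega
    have e2 : q ^ 2 * (q ^ 5 + 1) = q ^ 7 + q ^ 2 := by ring
    have e3 : q ^ 2 ≤ q ^ 5 := Nat.pow_le_pow_right (by omega) (by norm_num)
    omega
  have h2 : (q ^ 6 - 1) * (q ^ 9 + 1) ≤ q ^ 15 := by
    have e1 : (q ^ 6 - 1) * (q ^ 9 + 1) + (q ^ 9 + 1) = q ^ 6 * (q ^ 9 + 1) := by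
      rw [← Nat.succ_mul]
      congr 1
      have : 0 < q ^ 6 := Nat.pow_pos (by omega)
      omega
    have e2 : q ^ 6 * (q ^ 9 + 1) = q ^ 15 + q ^ 6 := by ring
    have e3 : q ^ 6 ≤ q ^ 9 := Nat.pow_le_pow_right (by omega) (by norm_num)
    omega
  have hle : Nat.gcd 3 (q + 1) * Nat.card ↥(twistedE6 K q) ≤ q ^ 78 := by
    rw [hcT]
    calc q ^ 36 * (q ^ 2 - 1) * (q ^ 5 + 1) * (q ^ 6 - 1) * (q ^ 8 - 1) * (q ^ 9 + 1) * (q ^ 12 - 1)
        = q ^ 36 * ((q ^ 2 - 1) * (q ^ 5 + 1)) * ((q ^ 6 - 1) * (q ^ 9 + 1)) * (q ^ 8 - 1) * (q ^ 12 - 1) := by ring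
      _ ≤ q ^ 36 * q ^ 7 * q ^ 15 * q ^ 8 * q ^ 12 := by
          refine Nat.mul_le_mul (Nat.mul_le_mul (Nat.mul_le_mul (Nat.mul_le_mul le_rfl h1) h2) ?_) ?_ <;>
            exact Nat.sub_le _ _
      _ = q ^ 78 := by ring
  have hfin : Finite ↥(twistedE6 K q) := inferInstance
  refine fine_of_ls hna hp hdv hls hq (E := 79) ?_ ?_
  · refine (card_aut hna (o := q) ?_ hle).trans (by ring_nf; rfl)
    rw [ho]
    calc 2 * Nat.gcd 3 (q + 1) * f = 2 * f * Nat.gcd 3 (q + 1) := by ring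
      _ ≤ q * Nat.gcd 3 (q + 1) := Nat.mul_le_mul_right _ h2f
  · have h5 : 2 ^ 5 ≤ q ^ 5 := Nat.pow_le_pow_left hq 5
    have h6 : q * 2 ^ 5 ≤ q * q ^ 5 := Nat.mul_le_mul_left _ h5
    have h7 : q * q ^ 5 = q ^ 6 := by ring
    omega

/-- **Task 769** -/
theorem fine_exc2 {T : Type u} [Group T] [Finite T] (h : Cfsg.Lie.IsoF4 T ∨ Cfsg.Lie.IsoChevE6 T ∨ Cfsg.Lie.IsoE7 T ∨
    Cfsg.Lie.IsoE8 T ∨ Cfsg.Lie.Iso2E6 T) : Cfsg.Agent.H223.Bnd.Bn.{u, u} T := by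
  rcases h with h | h | h | h | h
  · exact fine_f4 h
  · exact fine_e6 h
  · exact fine_e7 h
  · exact fine_e8 h
  · exact fine_2e6 h

end Cfsg.Agent.H223.Bnd.H656.FineExc2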