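import Cfsg.Agent.H831.FineUnit
import Cfsg.Agent.H912.BdHom
import Cfsg.Agent.H175.BdSL
import Cfsg.Agent.S0249
import Cfsg.Agent.H319.PslFour
import Cfsg.Agent.H223.Bnd.Base

/-!
# `Fine` for `PSL_3(4)` (helper831, task 762 for S4881)

`PSL_3(4)` contains `3² : Q₈` acting freely on `3²` (`bd_three`).
-/

set_option autoImplicit false
set_option maxRecDepth 20000

namespace Cfsg.Agent.H223.Bnd.H831.FineLin
universe u

open Matrix Cfsg.Agent.H698 Cfsg.Agent.H831.FineBase Cfsg.Agent.H831.FineUnit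
open Cfsg.Agent.H674.Explicit Cfsg.Agent.H674.ExplicitCases Cfsg.Agent.H674.TwelvePSU
open Cfsg.Agent.H912.Bd

abbrev M3 := Matrix (Fin 3) (Fin 3) F4
abbrev L3 := Matrix.SpecialLinearGroup (Fin 3) F4
abbrev P3 := Matrix.ProjectiveSpecialLinearGroup (Fin 3) F4
abbrev V := ZMod 3 × ZMod 3

def o : F4 := ⟨0, 0⟩
def i : F4 := ⟨1, 0⟩
def w : F4 := ⟨0, 1⟩
def v : F4 := ⟨1, 1⟩

def X : M3 := !![o, o, i; i, o, o; o, i, o]
def Z : M3 := !![i, o, o; o, w, o; o, o, v]

/-- the matrices of the extraspecial group -/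
def Mx (a : V) : M3 := X ^ a.1.val * Z ^ a.2.val

/-- five elements of the quaternion group -/
def Ms : Fin 5 → M3
  | 0 => !![i, o, o; o, i, o; o, o, i]
  | 1 => !![i, i, i; i, w, v; i, v, w]
  | 2 => !![i, o, o; o, o, i; o, i, o]
  | 3 => !![i, i, i; i, v, w; i, w, v]
  | 4 => !![i, i, v; i, w, w; w, i, w]

/-- their action -/
def al (s : Fin 5) (a : V) : V :=
  match s with
  | 0 => a
  | 1 => (2 * a.2, a.1)
  | 2 => (2 * a.1, 2 * a.2)
  | 3 => (a.2, 2 * a.1)
  | 4 => (a.1 + 2 * a.2, 2 * a.1 + 2 * a.2)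

theorem det_Mx : ∀ a : V, (Mx a).det = 1 := by decide +kernel
theorem det_Ms : ∀ s : Fin 5, (Ms s).det = 1 := by decide +kernel
theorem Mx_mul : ∀ a b : V, ∃ c : F4, Mx a * Mx b = c • Mx (a + b) := by decide +kernel
theorem Mx_sc : ∀ a : V, (∃ c : F4, Mx a = c • (1 : M3)) → a = 0 := by decide +kernel
theorem Ms_conj : ∀ (s : Fin 5) (a : V), ∃ c : F4, Ms s * Mx a = c • (Mx (al s a) * Ms s) := by decide +kernel
theorem al_free : ∀ s t : Fin 5, s ≠ t → ∀ a : V, al s a = al t a → a = 0 := by decide +kernel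

abbrev pr : L3 →* P3 := QuotientGroup.mk' (Subgroup.center L3)

theorem pr_eq {g h : L3} {c : F4} (H : (g : M3) = c • (h : M3)) : pr g = pr h := by
  rw [eq_comm, ← inv_mul_eq_one, ← map_inv, ← map_mul, QuotientGroup.mk'_apply, QuotientGroup.eq_one_iff,
    Subgroup.mem_center_iff]
  intro x
  have h1 : ((h⁻¹ * g : L3) : M3) = c • (1 : M3) := by
    rw [Matrix.SpecialLinearGroup.coe_mul, H, mul_smul_comm, ← Matrix.SpecialLinearGroup.coe_mul, inv_mul_cancel,
      Matrix.SpecialLinearGroup.coe_one]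
  apply Subtype.ext
  change (x : M3) * ((h⁻¹ * g : L3) : M3) = ((h⁻¹ * g : L3) : M3) * (x : M3)
  rw [h1, mul_smul_comm, smul_mul_assoc, mul_one, one_mul]

theorem sc_of_pr {g : L3} (h : pr g = 1) : ∃ c : F4, (g : M3) = c • (1 : M3) := by
  rw [QuotientGroup.mk'_apply, QuotientGroup.eq_one_iff] at h
  obtain ⟨c, -, hc⟩ := Matrix.SpecialLinearGroup.mem_center_iff.1 h
  refine ⟨c, ?_⟩
  rw [← hc, Matrix.scalar_apply, Matrix.smul_one_eq_diagonal]

def mkL (A : M3) (h : A.det = 1) : L3 := ⟨A, h⟩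

/-- the elementary abelian group of order nine -/
def φ : Multiplicative V →* P3 :=
  MonoidHom.mk' (fun a => pr (mkL (Mx a.toAdd) (det_Mx _))) (by
    intro a b
    rw [← map_mul]
    obtain ⟨c, hc⟩ := Mx_mul a.toAdd b.toAdd
    exact (pr_eq (c := c) hc).symm)

theorem φ_apply (a : Multiplicative V) : φ a = pr (mkL (Mx a.toAdd) (det_Mx _)) := rfl

theorem φ_injective : Function.Injective φ := by
  rw [injective_iff_map_eq_one]
  intro a ha
  rw [φ_apply] at ha
  exact congrArg Multiplicative.ofAdd (Mx_sc a.toAdd (sc_of_pr ha))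

/-- the elements of the quaternion group -/
def ss (s : Fin 5) : P3 := pr (mkL (Ms s) (det_Ms s))

theorem ss_conj (s : Fin 5) (a : Multiplicative V) : ss s * φ a * (ss s)⁻¹ = φ (Multiplicative.ofAdd (al s a.toAdd)) := by
  rw [mul_inv_eq_iff_eq_mul, ss, φ_apply, φ_apply, ← map_mul, ← map_mul]
  obtain ⟨c, hc⟩ := Ms_conj s a.toAdd
  exact pr_eq (c := c) hc

theorem bd_three {T : Type*} [Group T] (e : P3 ≃* T) {K : Type u} [Field K] (h3 : (3 : K) ≠ 0) : Bd K 3 5 T := by
  classical
  have key : Bd K 3 5 P3 := by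
    have hinj : Function.Injective ss := by
      intro s t hst
      by_contra hne
      have h1 : ∀ a : V, al s a = al t a := by
        intro a
        have h2 := ss_conj s (Multiplicative.ofAdd a)
        rw [hst, ss_conj] at h2
        exact (congrArg Multiplicative.toAdd (φ_injective h2)).symm
      exact absurd (al_free s t hne (1, 0) (h1 _)) (by decide)
    have hfin : Finite φ.range := Finite.of_surjective _ φ.rangeRestrict_surjective
    have h5 := bd_of_free (F := K) Nat.prime_three (by exact_mod_cast h3) φ.range ?_ ?_ ?_ (Finset.univ.image ss) ?_ ?_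
    · rwa [Finset.card_image_of_injective _ hinj, Finset.card_univ, Fintype.card_fin] at h5
    · rintro _ ⟨a, rfl⟩ _ ⟨b, rfl⟩
      rw [← map_mul, ← map_mul, mul_comm]
    · rintro ⟨_, a, rfl⟩
      refine ⟨1, Subtype.ext ?_⟩
      change φ a ^ 3 ^ 1 = 1
      rw [pow_one, ← map_pow]
      have h1 : a ^ 3 = 1 := by
        revert a; decide
      rw [h1, map_one]
    · intro h
      have h1 : φ (Multiplicative.ofAdd (1, 0)) ∈ φ.range := ⟨_, rfl⟩
      rw [h, Subgroup.mem_bot] at h1
      have h2 := φ_injective (h1.trans (map_one φ).symm)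
      exact absurd (congrArg Multiplicative.toAdd h2) (by decide)
    · intro s hs x hx
      obtain ⟨s, -, rfl⟩ := Finset.mem_image.1 hs
      obtain ⟨a, rfl⟩ := hx
      exact ⟨_, (ss_conj s a).symm⟩
    · intro s hs t ht hst x hx h
      obtain ⟨s, -, rfl⟩ := Finset.mem_image.1 hs
      obtain ⟨t, -, rfl⟩ := Finset.mem_image.1 ht
      obtain ⟨a, rfl⟩ := hx
      rw [ss_conj, ss_conj] at h
      have h1 := congrArg Multiplicative.toAdd (φ_injective h)
      have h2 := al_free s t (fun h => hst (by rw [h])) _ h1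
      have h3 : a = 1 := congrArg Multiplicative.ofAdd h2
      rw [h3, map_one]
  exact Bd.congr key e.symm

theorem card_psl34 {F : Type} [Field F] [Fintype F] (hF : Fintype.card F = 4) :
    Nat.card (Matrix.ProjectiveSpecialLinearGroup (Fin 3) F) = 20160 := by
  have h0 := Cfsg.Agent.S0243.result hF 3 (by norm_num)
  rw [Fin.prod_univ_three] at h0
  norm_num at h0
  omega

theorem fine_l34 {T : Type u} [Group T] [Finite T] {F : Type} [Field F] [Fintype F] (hF : Fintype.card F = 4)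
    (e : T ≃* Matrix.ProjectiveSpecialLinearGroup (Fin 3) F) : Cfsg.Agent.H223.Bnd.Bn.{u, u} T := by
  have : Fact (Nat.Prime 2) := ⟨Nat.prime_two⟩
  have hchar : CharP F 2 := charP_of_card_eq_prime_pow (f := 2) hF
  have hs' : IsSimpleGroup (Matrix.ProjectiveSpecialLinearGroup (Fin 3) F) := Cfsg.Agent.S0249.result 3 le_rfl
  have hs : IsSimpleGroup T := MulEquiv.isSimpleGroup e
  have hcard : Nat.card T = 20160 := by rw [Nat.card_congr e.toEquiv, card_psl34 hF]
  have haut : Nat.card (MulAut T) = 241920 := by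
    rw [Nat.card_congr (autCongr e).toEquiv, Cfsg.Agent.H319.PslFour.card_aut hF, card_psl34 hF]
  have hna : ¬ IsMulCommutative T := not_comm_of_card (by rw [hcard]; norm_num)
  have hc := center_eq_bot hna
  let ψ : P3 ≃* T := (Cfsg.Agent.LieClassical.FieldTransfer.pslCongr
    (FiniteField.ringEquivOfCardEq (h4.trans (by rw [hF]; norm_num)))).trans e.symm
  refine Cfsg.Agent.H223.Bnd.Bn.of_lt6 hc (by rw [hcard]; norm_num) fun p m hp h11 hpT hm hR => ?_
  rw [haut]
  have h6 : 6 ≤ m := by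
    obtain ⟨K, _, _, d, hd2, hdm, hPR⟩ := Cfsg.Agent.H831.FineScalar.exists_scalar hna hR
    refine le_trans ?_ hdm
    have hcast : ∀ r : ℕ, r.Prime → r ∣ Nat.card T → (r : K) ≠ 0 := by
      intro r hr hrT
      rw [Ne, CharP.cast_eq_zero_iff K p, Nat.prime_dvd_prime_iff_eq hp hr]
      rintro rfl
      exact hpT hrT
    by_cases h2 : 2 ∣ d
    · by_cases h3 : 3 ∣ d
      · have h6 : 6 ∣ d := Nat.Coprime.mul_dvd_of_dvd_of_dvd (by norm_num) h2 h3
        exact Nat.le_of_dvd (by omega) h6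
      · have h5 := bd_three ψ (K := K) (by exact_mod_cast hcast 3 Nat.prime_three (by rw [hcard]; norm_num)) d
          (hPR 3 Nat.prime_three h3)
        omega
    · have h5 := Cfsg.Agent.H175.BdSL.bd_psl (F := K) Nat.prime_two hF le_rfl
        (hcast 2 Nat.prime_two (by rw [hcard]; norm_num)) e d (hPR 2 Nat.prime_two h2)
      norm_num at h5
      omega
  exact numeric (k := 6) (B := 12) (d := 5) (by norm_num) (by omega) (by norm_num) (by decide) h11

end Cfsg.Agent.H223.Bnd.H831.FineLin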