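import Cfsg.Agent.H912.Bd3
import Cfsg.Agent.H674.TwelvePSU

/-!
# S4790, T8: degree bounds for `SL_5(2)` and `SU_5(2)` (helper223)

`bd_sl52` : at least `21` (a cyclic group of order `21` acting freely on an elementary abelian group of order `2 ^ 6`);
`bd_su52` : at least `10` (a group of order `5` acting freely on an elementary abelian group of order `2 ^ 4` with
nonabelian centralizer).
-/

set_option autoImplicit false

namespace Cfsg.Agent.H223.Bnd.Low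

open Matrix Cfsg.Agent.H912.Bd Cfsg.Agent.H674.Explicit Cfsg.Agent.H674.ExplicitCases Cfsg.Agent.H674.TwelvePSU
open Cfsg.Agent.H674.SUTools

universe u v w

section sl

abbrev S5 := SpecialLinearGroup (Fin 5) (ZMod 2)

/-- the unipotent radical of the stabilizer of a plane -/
def X (a b c d e f : ZMod 2) : Matrix (Fin 5) (Fin 5) (ZMod 2) :=
  !![1, 0, a, b, c; 0, 1, d, e, f; 0, 0, 1, 0, 0; 0, 0, 0, 1, 0; 0, 0, 0, 0, 1]

def sa : Matrix (Fin 5) (Fin 5) (ZMod 2) :=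
  !![0, 1, 0, 0, 0; 1, 1, 0, 0, 0; 0, 0, 0, 0, 1; 0, 0, 1, 0, 1; 0, 0, 0, 1, 0]
def sa3 : Matrix (Fin 5) (Fin 5) (ZMod 2) :=
  !![1, 0, 0, 0, 0; 0, 1, 0, 0, 0; 0, 0, 1, 0, 1; 0, 0, 1, 1, 1; 0, 0, 0, 1, 1]
def sa7 : Matrix (Fin 5) (Fin 5) (ZMod 2) :=
  !![0, 1, 0, 0, 0; 1, 1, 0, 0, 0; 0, 0, 1, 0, 0; 0, 0, 0, 1, 0; 0, 0, 0, 0, 1]

theorem X_mul (a b c d e f a' b' c' d' e' f' : ZMod 2) :
    X a b c d e f * X a' b' c' d' e' f' = X (a + a') (b + b') (c + c') (d + d') (e + e') (f + f') := by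
  ext i j
  fin_cases i <;> fin_cases j <;> simp [X, Matrix.mul_apply, Fin.sum_univ_succ, add_comm]

theorem X_zero : X 0 0 0 0 0 0 = 1 := by decide +kernel

theorem X_det : ∀ a b c d e f : ZMod 2, (X a b c d e f).det = 1 := by decide +kernel

theorem X_act : ∀ a b c d e f : ZMod 2,
    sa * X a b c d e f = X (d + f) d e (a + c + d + f) (a + d) (b + e) * sa := by decide +kernel

theorem sa_det : sa.det = 1 := by decide +kernel

theorem sa_three : sa * sa * sa = sa3 := by decide +kernel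

theorem sa_seven : sa3 * sa3 * sa = sa7 := by decide +kernel

theorem sa_free3 : ∀ a b c d e f : ZMod 2, sa3 * X a b c d e f = X a b c d e f * sa3 → X a b c d e f = 1 := by
  decide +kernel

theorem sa_free7 : ∀ a b c d e f : ZMod 2, sa7 * X a b c d e f = X a b c d e f * sa7 → X a b c d e f = 1 := by
  decide +kernel

theorem sa_pow : sa7 * sa7 * sa7 = 1 := by decide +kernel

/-- the elements -/
def xE (a b c d e f : ZMod 2) : S5 := ⟨X a b c d e f, X_det a b c d e f⟩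

def xa : S5 := ⟨sa, sa_det⟩

theorem xa3 : (xa ^ 3).1 = sa3 := by
  rw [show xa ^ 3 = xa * xa * xa by rw [pow_succ, pow_two]]
  exact sa_three

theorem xa7 : (xa ^ 7).1 = sa7 := by
  rw [show xa ^ 7 = xa ^ 3 * xa ^ 3 * xa by rw [← pow_add, ← pow_succ]]
  change (xa ^ 3).1 * (xa ^ 3).1 * sa = _
  rw [xa3]
  exact sa_seven

theorem xa21 : xa ^ 21 = 1 := by
  apply Subtype.ext
  rw [show xa ^ 21 = xa ^ 7 * xa ^ 7 * xa ^ 7 by rw [← pow_add, ← pow_add]]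
  change (xa ^ 7).1 * (xa ^ 7).1 * (xa ^ 7).1 = 1
  rw [xa7]
  exact sa_pow

/-- the elementary abelian subgroup -/
def E5 : Subgroup S5 where
  carrier := {g | ∃ a b c d e f, g = xE a b c d e f}
  one_mem' := ⟨0, 0, 0, 0, 0, 0, Subtype.ext X_zero.symm⟩
  mul_mem' := by
    rintro _ _ ⟨a, b, c, d, e, f, rfl⟩ ⟨a', b', c', d', e', f', rfl⟩
    exact ⟨_, _, _, _, _, _, Subtype.ext (X_mul _ _ _ _ _ _ _ _ _ _ _ _)⟩
  inv_mem' := by
    rintro _ ⟨a, b, c, d, e, f, rfl⟩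
    refine ⟨a, b, c, d, e, f, ?_⟩
    rw [inv_eq_iff_mul_eq_one]
    apply Subtype.ext
    change X a b c d e f * X a b c d e f = 1
    rw [X_mul, ← X_zero]
    simp only [CharTwo.add_self_eq_zero]

theorem E5_comm : ∀ x ∈ E5, ∀ y ∈ E5, x * y = y * x := by
  rintro _ ⟨a, b, c, d, e, f, rfl⟩ _ ⟨a', b', c', d', e', f', rfl⟩
  apply Subtype.ext
  change X a b c d e f * X a' b' c' d' e' f' = X a' b' c' d' e' f' * X a b c d e f
  rw [X_mul, X_mul, add_comm a, add_comm b, add_comm c, add_comm d, add_comm e, add_comm f]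

theorem E5_sq : ∀ x ∈ E5, x ^ 2 = 1 := by
  rintro _ ⟨a, b, c, d, e, f, rfl⟩
  rw [pow_two]
  apply Subtype.ext
  change X a b c d e f * X a b c d e f = 1
  rw [X_mul, ← X_zero]
  simp only [CharTwo.add_self_eq_zero]

theorem free_aux {G : Type*} [Group G] {x e : G} {i : ℕ} (h21 : x ^ 21 = 1) (h0 : 0 < i) (hi : i < 21)
    (h : x ^ i * e = e * x ^ i) : x ^ 3 * e = e * x ^ 3 ∨ x ^ 7 * e = e * x ^ 7 := by
  have hc : Commute (x ^ i) e := h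
  have key : ∀ k : ℕ, Commute (x ^ (i * k)) e := fun k => by
    rw [pow_mul]; exact hc.pow_left k
  have hmod : ∀ a b : ℕ, a % 21 = b % 21 → x ^ a = x ^ b := by
    intro a b hab
    rw [pow_eq_pow_mod a h21, pow_eq_pow_mod b h21, hab]
  interval_cases i
  · exact Or.inl (hmod (1 * 3) 3 rfl ▸ key 3)
  · exact Or.inl (hmod (2 * 12) 3 rfl ▸ key 12)
  · exact Or.inl (hmod (3 * 1) 3 rfl ▸ key 1)
  · exact Or.inl (hmod (4 * 6) 3 rfl ▸ key 6)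
  · exact Or.inl (hmod (5 * 9) 3 rfl ▸ key 9)
  · exact Or.inl (hmod (6 * 4) 3 rfl ▸ key 4)
  · exact Or.inr (hmod (7 * 1) 7 rfl ▸ key 1)
  · exact Or.inl (hmod (8 * 3) 3 rfl ▸ key 3)
  · exact Or.inl (hmod (9 * 5) 3 rfl ▸ key 5)
  · exact Or.inl (hmod (10 * 15) 3 rfl ▸ key 15)
  · exact Or.inl (hmod (11 * 6) 3 rfl ▸ key 6)
  · exact Or.inl (hmod (12 * 2) 3 rfl ▸ key 2)
  · exact Or.inl (hmod (13 * 18) 3 rfl ▸ key 18)
  · exact Or.inr (hmod (14 * 2) 7 rfl ▸ key 2)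
  · exact Or.inl (hmod (15 * 3) 3 rfl ▸ key 3)
  · exact Or.inl (hmod (16 * 12) 3 rfl ▸ key 12)
  · exact Or.inl (hmod (17 * 15) 3 rfl ▸ key 15)
  · exact Or.inl (hmod (18 * 6) 3 rfl ▸ key 6)
  · exact Or.inl (hmod (19 * 9) 3 rfl ▸ key 9)
  · exact Or.inl (hmod (20 * 18) 3 rfl ▸ key 18)

theorem bd_sl52 {F : Type u} [Field F] (h2 : ((2 : ℕ) : F) ≠ 0) : Bd F 2 21 S5 := by
  refine bd_of_frob Nat.prime_two h2 E5 E5_comm (fun x => ⟨1, Subtype.ext (E5_sq x x.2)⟩) ?_ 21 (a := xa) ?_ ?_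
  · intro h
    have h1 : xE 1 0 0 0 0 0 ∈ E5 := ⟨_, _, _, _, _, _, rfl⟩
    rw [h, Subgroup.mem_bot] at h1
    have h3 := congrFun (congrFun (congrArg Subtype.val h1) 0) 2
    exact absurd h3 (by decide)
  · rintro _ ⟨a, b, c, d, e, f, rfl⟩
    refine ⟨d + f, d, e, a + c + d + f, a + d, b + e, ?_⟩
    rw [mul_inv_eq_iff_eq_mul]
    exact Subtype.ext (X_act a b c d e f)
  · rintro i h0 h21 _ ⟨a, b, c, d, e, f, rfl⟩ h
    rcases free_aux xa21 h0 h21 h with h3 | h7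
    · have h4 := congrArg Subtype.val h3
      change (xa ^ 3).1 * X a b c d e f = X a b c d e f * (xa ^ 3).1 at h4
      rw [xa3] at h4
      exact Subtype.ext (sa_free3 _ _ _ _ _ _ h4)
    · have h4 := congrArg Subtype.val h7
      change (xa ^ 7).1 * X a b c d e f = X a b c d e f * (xa ^ 7).1 at h4
      rw [xa7] at h4
      exact Subtype.ext (sa_free7 _ _ _ _ _ _ h4)

end sl

section su

abbrev M5 := Matrix (Fin 5) (Fin 5) F4

def mf : M5 := !![⟨1, 0⟩, ⟨1, 0⟩, ⟨1, 0⟩, ⟨0, 0⟩, ⟨0, 0⟩; ⟨0, 1⟩, ⟨0, 1⟩, ⟨0, 0⟩, ⟨1, 0⟩, ⟨0, 0⟩; ⟨1, 0⟩, ⟨0, 0⟩, ⟨1, 0⟩, ⟨1, 1⟩, ⟨0, 0⟩; ⟨0, 0⟩, ⟨1, 0⟩, ⟨1, 0⟩, ⟨1, 1⟩, ⟨0, 0⟩; ⟨0, 0⟩, ⟨0, 0⟩, ⟨0, 0⟩, ⟨0, 0⟩, ⟨1, 0⟩]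
def ma : M5 := !![⟨1, 0⟩, ⟨0, 0⟩, ⟨0, 0⟩, ⟨0, 0⟩, ⟨0, 0⟩; ⟨0, 0⟩, ⟨1, 0⟩, ⟨0, 0⟩, ⟨0, 0⟩, ⟨0, 0⟩; ⟨0, 0⟩, ⟨0, 0⟩, ⟨1, 1⟩, ⟨0, 1⟩, ⟨1, 0⟩; ⟨0, 0⟩, ⟨0, 0⟩, ⟨0, 1⟩, ⟨1, 1⟩, ⟨1, 0⟩; ⟨0, 0⟩, ⟨0, 0⟩, ⟨1, 0⟩, ⟨1, 0⟩, ⟨1, 0⟩]
def mb : M5 := !![⟨1, 0⟩, ⟨0, 0⟩, ⟨0, 0⟩, ⟨0, 0⟩, ⟨0, 0⟩; ⟨0, 0⟩, ⟨1, 0⟩, ⟨0, 0⟩, ⟨0, 0⟩, ⟨0, 0⟩; ⟨0, 0⟩, ⟨0, 0⟩, ⟨1, 1⟩, ⟨0, 1⟩, ⟨0, 1⟩; ⟨0, 0⟩, ⟨0, 0⟩, ⟨0, 1⟩, ⟨1, 1⟩, ⟨0, 1⟩; ⟨0, 0⟩, ⟨0, 0⟩, ⟨1, 1⟩, ⟨1, 1⟩, ⟨1, 0⟩]

/-- the centre of the unipotent radical of the stabilizer of a totally isotropic line -/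
def Z (a c x y : ZMod 2) : M5 :=
  !![⟨1 + a, 0⟩, ⟨a, 0⟩, ⟨x, y⟩, ⟨x, y⟩, ⟨0, 0⟩; ⟨a, 0⟩, ⟨1 + a, 0⟩, ⟨x, y⟩, ⟨x, y⟩, ⟨0, 0⟩;
    ⟨x + y, y⟩, ⟨x + y, y⟩, ⟨1 + c, 0⟩, ⟨c, 0⟩, ⟨0, 0⟩; ⟨x + y, y⟩, ⟨x + y, y⟩, ⟨c, 0⟩, ⟨1 + c, 0⟩, ⟨0, 0⟩;
    ⟨0, 0⟩, ⟨0, 0⟩, ⟨0, 0⟩, ⟨0, 0⟩, ⟨1, 0⟩]

theorem Z_zero : Z 0 0 0 0 = 1 := by decide +kernel
theorem Z_good : ∀ a c x y : ZMod 2, good 2 (Z a c x y) = true := by decide +kernel
theorem Z_mul00 : ∀ c x y c' x' y' : ZMod 2, Z 0 c x y * Z 0 c' x' y' = Z (0 + 0) (c + c') (x + x') (y + y') := by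
  decide +kernel
theorem Z_mul01 : ∀ c x y c' x' y' : ZMod 2, Z 0 c x y * Z 1 c' x' y' = Z (0 + 1) (c + c') (x + x') (y + y') := by
  decide +kernel
theorem Z_mul10 : ∀ c x y c' x' y' : ZMod 2, Z 1 c x y * Z 0 c' x' y' = Z (1 + 0) (c + c') (x + x') (y + y') := by
  decide +kernel
theorem Z_mul11 : ∀ c x y c' x' y' : ZMod 2, Z 1 c x y * Z 1 c' x' y' = Z (1 + 1) (c + c') (x + x') (y + y') := by
  decide +kernel
theorem zmod_cases : ∀ a : ZMod 2, a = 0 ∨ a = 1 := by decide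
theorem Z_mul : ∀ a c x y a' c' x' y' : ZMod 2, Z a c x y * Z a' c' x' y' = Z (a + a') (c + c') (x + x') (y + y') := by
  intro a c x y a' c' x' y'
  rcases zmod_cases a with rfl | rfl <;> rcases zmod_cases a' with rfl | rfl
  · exact Z_mul00 c x y c' x' y'
  · exact Z_mul01 c x y c' x' y'
  · exact Z_mul10 c x y c' x' y'
  · exact Z_mul11 c x y c' x' y'
theorem f_good : good 2 mf = true := by decide +kernel
theorem a_good : good 2 ma = true := by decide +kernel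
theorem b_good : good 2 mb = true := by decide +kernel
theorem f_act : ∀ a c x y : ZMod 2, mf * Z a c x y = Z c (a + c + x) (c + x + y) (c + y) * mf := by decide +kernel
theorem f_free : ∀ a c x y : ZMod 2, mf * Z a c x y = Z a c x y * mf → Z a c x y = 1 := by decide +kernel
theorem f_pow : mf * mf * (mf * mf) * mf = 1 := by decide +kernel
theorem a_pow : (ma * ma) * (ma * ma) = 1 := by decide +kernel
theorem a_cent : ∀ a c x y : ZMod 2, ma * Z a c x y = Z a c x y * ma := by decide +kernel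
theorem b_cent : ∀ a c x y : ZMod 2, mb * Z a c x y = Z a c x y * mb := by decide +kernel
theorem ab_comm : ma * mb = Z 0 1 0 0 * (mb * ma) := by decide +kernel

abbrev U5 := Cfsg.SU 5 F4 2

theorem exists_Z (a c x y : ZMod 2) : ∃ g : U5, cm g = Z a c x y := exists_of_good h4 (Z_good a c x y)

/-- the elementary abelian subgroup -/
def EU : Subgroup U5 where
  carrier := {g | ∃ a c x y, cm g = Z a c x y}
  one_mem' := ⟨0, 0, 0, 0, by rw [map_one, Z_zero]⟩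
  mul_mem' := by
    rintro g h ⟨a, c, x, y, hg⟩ ⟨a', c', x', y', hh⟩
    exact ⟨_, _, _, _, by rw [map_mul, hg, hh, Z_mul]⟩
  inv_mem' := by
    rintro g ⟨a, c, x, y, hg⟩
    refine ⟨a, c, x, y, ?_⟩
    have h1 : g⁻¹ = g := by
      rw [inv_eq_iff_mul_eq_one]
      apply cm_injective
      rw [map_mul, hg, Z_mul, map_one, ← Z_zero]
      simp only [CharTwo.add_self_eq_zero]
    rw [h1, hg]

theorem EU_comm : ∀ x ∈ EU, ∀ y ∈ EU, x * y = y * x := by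
  rintro g ⟨a, c, x, y, hg⟩ h ⟨a', c', x', y', hh⟩
  apply cm_injective
  rw [map_mul, map_mul, hg, hh, Z_mul, Z_mul, add_comm a, add_comm c, add_comm x, add_comm y]

theorem EU_sq : ∀ x ∈ EU, x ^ 2 = 1 := by
  rintro g ⟨a, c, x, y, hg⟩
  apply cm_injective
  rw [pow_two, map_mul, hg, Z_mul, map_one, ← Z_zero]
  simp only [CharTwo.add_self_eq_zero]

theorem free_five {G : Type*} [Group G] {x e : G} {i : ℕ} (h5 : x ^ 5 = 1) (h0 : 0 < i) (hi : i < 5)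
    (h : x ^ i * e = e * x ^ i) : x * e = e * x := by
  have hc : Commute (x ^ i) e := h
  have key : ∀ k : ℕ, Commute (x ^ (i * k)) e := fun k => by
    rw [pow_mul]; exact hc.pow_left k
  have hmod : ∀ a b : ℕ, a % 5 = b % 5 → x ^ a = x ^ b := by
    intro a b hab
    rw [pow_eq_pow_mod a h5, pow_eq_pow_mod b h5, hab]
  rw [← pow_one x]
  interval_cases i
  · exact hmod (1 * 1) 1 rfl ▸ key 1
  · exact hmod (2 * 3) 1 rfl ▸ key 3
  · exact hmod (3 * 2) 1 rfl ▸ key 2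
  · exact hmod (4 * 4) 1 rfl ▸ key 4

theorem bd_su52 {F : Type u} [Field F] (h2 : ((2 : ℕ) : F) ≠ 0) : Bd F 2 10 U5 := by
  classical
  obtain ⟨f, hf⟩ := exists_of_good h4 f_good
  obtain ⟨a, ha⟩ := exists_of_good h4 a_good
  obtain ⟨b, hb⟩ := exists_of_good h4 b_good
  obtain ⟨z, hz⟩ := exists_Z 0 1 0 0
  have hf5 : f ^ 5 = 1 := by
    apply cm_injective
    rw [show f ^ 5 = f * f * (f * f) * f by simp only [pow_succ, pow_zero, one_mul, mul_assoc], map_mul, map_mul,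
      map_mul, hf, f_pow, map_one]
  have hnorm : ∀ e ∈ EU, f * e * f⁻¹ ∈ EU := by
    rintro e ⟨p, c, x, y, he⟩
    obtain ⟨g, hg⟩ := exists_Z c (p + c + x) (c + x + y) (c + y)
    have h1 : f * e * f⁻¹ = g := by
      rw [mul_inv_eq_iff_eq_mul]
      apply cm_injective
      rw [map_mul, map_mul, hf, he, hg, f_act]
    rw [h1]
    exact ⟨_, _, _, _, hg⟩
  have hpow : ∀ i : ℕ, ∀ e ∈ EU, f ^ i * e * (f ^ i)⁻¹ ∈ EU := by
    intro i
    induction i with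
    | zero => intro e he; simpa using he
    | succ i ih =>
      intro e he
      have : f ^ (i + 1) * e * (f ^ (i + 1))⁻¹ = f * (f ^ i * e * (f ^ i)⁻¹) * f⁻¹ := by
        rw [pow_succ']; group
      rw [this]
      exact hnorm _ (ih e he)
  have hfree : ∀ i : ℕ, 0 < i → i < 5 → ∀ e ∈ EU, f ^ i * e = e * f ^ i → e = 1 := by
    rintro i h0 hi e ⟨p, c, x, y, he⟩ h
    have h1 := congrArg cm (free_five hf5 h0 hi h)
    rw [map_mul, map_mul, hf, he] at h1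
    apply cm_injective
    rw [he, map_one]
    exact f_free _ _ _ _ h1
  have key : ∀ i j : ℕ, i < j → j < 5 → ∀ e ∈ EU, f ^ i * e * (f ^ i)⁻¹ = f ^ j * e * (f ^ j)⁻¹ → e = 1 := by
    intro i j hij hj e he h
    have h1 : f ^ (j - i) * e = e * f ^ (j - i) := by
      have h2 : f ^ j = f ^ i * f ^ (j - i) := by rw [← pow_add]; congr 1; omega
      rw [h2] at h
      have h3 : e = f ^ (j - i) * e * (f ^ (j - i))⁻¹ := by
        calc e = (f ^ i)⁻¹ * (f ^ i * e * (f ^ i)⁻¹) * f ^ i := by group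
          _ = (f ^ i)⁻¹ * (f ^ i * f ^ (j - i) * e * (f ^ i * f ^ (j - i))⁻¹) * f ^ i := by rw [h]
          _ = f ^ (j - i) * e * (f ^ (j - i))⁻¹ := by group
      exact (mul_inv_eq_iff_eq_mul.1 h3.symm)
    exact hfree (j - i) (by omega) (by omega) e he h1
  have hz1 : z ≠ 1 := by
    intro h
    have h1 := congrArg cm h
    rw [hz, map_one] at h1
    exact absurd (congrFun (congrFun h1 2) 3) (by decide +kernel)
  have hzE : z ∈ EU := ⟨_, _, _, _, hz⟩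
  have hinj : Set.InjOn (fun i : ℕ => f ^ i) (Finset.range 5 : Set ℕ) := by
    have hne : ∀ i j : ℕ, i < j → j < 5 → f ^ i ≠ f ^ j := by
      intro i j hij hj h
      exact hz1 (key i j hij hj z hzE (by rw [h]))
    intro i hi j hj h
    simp only [Finset.coe_range, Set.mem_Iio] at hi hj
    rcases lt_trichotomy i j with h1 | h1 | h1
    · exact absurd h (hne i j h1 hj)
    · exact h1
    · exact absurd h.symm (hne j i h1 hi)
  have hab : a * b * a⁻¹ * b⁻¹ = z := by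
    have h1 : a * b = z * (b * a) := by
      apply cm_injective
      rw [map_mul, map_mul, map_mul, ha, hb, hz, ab_comm]
    rw [h1]; group
  have hcent : ∀ {g : U5} {M : M5}, cm g = M → (∀ a c x y : ZMod 2, M * Z a c x y = Z a c x y * M) →
      ∀ e ∈ EU, g * e = e * g := by
    rintro g M hg hM e ⟨p, c, x, y, he⟩
    apply cm_injective
    rw [map_mul, map_mul, hg, he, hM]
  have h5 := bd_of_free_ext (F := F) Nat.prime_two h2 EU EU_comm (fun x => ⟨1, Subtype.ext (EU_sq x x.2)⟩)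
    ((Finset.range 5).image (fun i => f ^ i)) (by
      intro s hs e he
      obtain ⟨i, -, rfl⟩ := Finset.mem_image.1 hs
      exact hpow i e he) (by
      intro s hs t ht hst e he h
      obtain ⟨i, hi, rfl⟩ := Finset.mem_image.1 hs
      obtain ⟨j, hj, rfl⟩ := Finset.mem_image.1 ht
      rw [Finset.mem_range] at hi hj
      rcases lt_trichotomy i j with h1 | h1 | h1
      · exact key i j h1 hj e he h
      · exact absurd (by rw [h1]) hst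
      · exact key j i h1 hi e he h.symm)
    (a := a) (b := b) (hcent ha a_cent) (hcent hb b_cent) (k := 2) (by
      apply cm_injective
      rw [show a ^ 2 ^ 2 = (a * a) * (a * a) by rw [show (2 ^ 2 : ℕ) = 2 + 2 from rfl, pow_add, pow_two], map_mul,
        map_mul, ha, a_pow, map_one]) (by rw [hab]; exact hzE) (by rw [hab]; exact hz1) (by rw [hab]; exact EU_sq z hzE)
  rwa [Finset.card_image_of_injOn hinj, Finset.card_range] at h5

end su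

end Cfsg.Agent.H223.Bnd.Low
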