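import Cfsg.Agent.H223.Bnd.Orth
import Cfsg.Agent.H315.FineSec
import Cfsg.Agent.H223.Bnd.Base
import Cfsg.Agent.H223.Bnd.Low

/-!
# `Fine` for `PΩ⁻₁₂(2)`: at least twelve classes
-/

set_option autoImplicit false

namespace Cfsg.Agent.H223.Bnd.H315.FineOrth
universe u v w

open Cfsg Cfsg.Agent.H698 Cfsg.Agent.H912.Bd Cfsg.Agent.H315.FineNum Cfsg.Agent.H315.FineOrth Matrix

abbrev M5 := Matrix (Fin 5) (Fin 5) (ZMod 2)

def a5 : M5 := !![1, 1, 0, 0, 0; 0, 1, 1, 0, 0; 0, 0, 1, 0, 0; 0, 0, 0, 0, 1; 0, 0, 0, 1, 1]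
def a5_2 : M5 := !![1, 0, 1, 0, 0; 0, 1, 0, 0, 0; 0, 0, 1, 0, 0; 0, 0, 0, 1, 1; 0, 0, 0, 1, 0]
def a5_4 : M5 := !![1, 0, 0, 0, 0; 0, 1, 0, 0, 0; 0, 0, 1, 0, 0; 0, 0, 0, 0, 1; 0, 0, 0, 1, 1]
def a5_6 : M5 := !![1, 0, 1, 0, 0; 0, 1, 0, 0, 0; 0, 0, 1, 0, 0; 0, 0, 0, 1, 0; 0, 0, 0, 0, 1]
def c5 : M5 := !![0, 1, 0, 0, 0; 0, 0, 1, 0, 0; 0, 0, 0, 1, 0; 0, 0, 0, 0, 1; 1, 0, 0, 0, 0]

theorem a5_mul : a5 * a5 = a5_2 := by decide +kernel
theorem a5_mul2 : a5_2 * a5_2 = a5_4 := by decide +kernel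
theorem a5_mul4 : a5_4 * a5_2 = a5_6 := by decide +kernel
theorem a5_mul6 : a5_6 * a5_6 = 1 := by decide +kernel
theorem a5_det : a5.det = 1 := by decide +kernel
theorem c5_det : c5.det = 1 := by decide +kernel
theorem c5_a4 : a5_4 * c5 ≠ c5 * a5_4 := by decide +kernel
theorem c5_a6 : a5_6 * c5 ≠ c5 * a5_6 := by decide +kernel

def x5 : SpecialLinearGroup (Fin 5) (ZMod 2) := ⟨a5, a5_det⟩
def y5 : SpecialLinearGroup (Fin 5) (ZMod 2) := ⟨c5, c5_det⟩

theorem x5_pow4 : (x5 ^ 4).1 = a5_4 := by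
  rw [show x5 ^ 4 = (x5 * x5) * (x5 * x5) by simp only [pow_succ, pow_zero, one_mul, mul_assoc]]
  change (a5 * a5) * (a5 * a5) = _
  rw [a5_mul, a5_mul2]

theorem x5_pow6 : (x5 ^ 6).1 = a5_6 := by
  rw [show x5 ^ 6 = ((x5 * x5) * (x5 * x5)) * (x5 * x5) by simp only [pow_succ, pow_zero, one_mul, mul_assoc]]
  change ((a5 * a5) * (a5 * a5)) * (a5 * a5) = _
  rw [a5_mul, a5_mul2, a5_mul4]

theorem x5_pow12 : x5 ^ 12 = 1 := by
  apply Subtype.ext
  rw [show x5 ^ 12 = x5 ^ 6 * x5 ^ 6 by group]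
  change (x5 ^ 6).1 * (x5 ^ 6).1 = 1
  rw [x5_pow6, a5_mul6]

/-- The image of `x5` has order `12`. -/
theorem orderOf_x5 {T : Type v} [Group T] (j : SpecialLinearGroup (Fin 5) (ZMod 2) →* T)
    (hj : j.ker ≤ Subgroup.center _) : orderOf (j x5) = 12 := by
  have h4 : ¬ x5 ^ 4 ∈ Subgroup.center (SpecialLinearGroup (Fin 5) (ZMod 2)) := by
    intro h
    have h1 := congrArg Subtype.val ((Subgroup.mem_center_iff.1 h) y5)
    change c5 * (x5 ^ 4).1 = (x5 ^ 4).1 * c5 at h1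
    rw [x5_pow4] at h1
    exact c5_a4 h1.symm
  have h6 : ¬ x5 ^ 6 ∈ Subgroup.center (SpecialLinearGroup (Fin 5) (ZMod 2)) := by
    intro h
    have h1 := congrArg Subtype.val ((Subgroup.mem_center_iff.1 h) y5)
    change c5 * (x5 ^ 6).1 = (x5 ^ 6).1 * c5 at h1
    rw [x5_pow6] at h1
    exact c5_a6 h1.symm
  refine orderOf_eq_of_pow_and_pow_div_prime (by norm_num) (by rw [← map_pow, x5_pow12, map_one]) ?_
  intro p hp hp12
  have h5 : p ∈ Nat.primeFactors 12 := Nat.mem_primeFactors.2 ⟨hp, hp12, by norm_num⟩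
  have h7 : Nat.primeFactors 12 = {2, 3} := by decide +kernel
  rw [h7] at h5
  rw [← map_pow]
  intro h8
  have h9 := hj (MonoidHom.mem_ker.2 h8)
  simp only [Finset.mem_insert, Finset.mem_singleton] at h5
  rcases h5 with rfl | rfl
  · exact h6 h9
  · exact h4 h9

variable {K : Type} [Field K] [Fintype K]

/-- `PΩ⁻₁₂(2)` -/
theorem fine_minus_six (hq : Fintype.card K = 2) (a b : K)
    (hab : ∀ z₁ z₂ : K, z₁ ^ 2 + a * z₁ * z₂ + b * z₂ ^ 2 = 0 → z₁ = 0 ∧ z₂ = 0)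
    (hN : Cop.{0, w} 2 (Cfsg.POmega K (Cfsg.quadFormMinus (6 - 1) K a b))) :
    Cfsg.Agent.H223.Bnd.Bn.{0, w} (Cfsg.POmega K (Cfsg.quadFormMinus (6 - 1) K a b)) := by
  have : Finite (Cfsg.isometryGroup K (Cfsg.quadFormMinus (6 - 1) K a b)) := inferInstance
  have : Finite (Cfsg.POmega K (Cfsg.quadFormMinus (6 - 1) K a b)) := inferInstance
  obtain ⟨h1, h2, h3⟩ := minus_basic Nat.prime_two le_rfl (by rw [hq, pow_one]) (by norm_num : 4 ≤ 6) a b hab
  have haut := minus_aut_two hq (by norm_num : 4 ≤ 6) a b hab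
  obtain ⟨σ⟩ : Nonempty (ZMod 2 ≃+* K) := by
    have : Fintype.card (ZMod 2) = Fintype.card K := by rw [hq]; rfl
    exact ⟨FiniteField.ringEquivOfCardEq this⟩
  obtain ⟨f, hf⟩ := exists_minus (K := K) (le_refl 5) a b
  let j : SpecialLinearGroup (Fin 5) (ZMod 2) →* Cfsg.POmega K (Cfsg.quadFormMinus (6 - 1) K a b) :=
    f.comp ((slO (K := K) (m := 5) (by norm_num)).comp (SpecialLinearGroup.map σ.toRingHom))
  have hj : Function.Injective j := by
    rw [injective_iff_map_eq_one]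
    intro x hx
    have h5 : slO (K := K) (m := 5) (by norm_num) (SpecialLinearGroup.map σ.toRingHom x) ∈ Subgroup.center _ := hf hx
    have h6 : x ∈ Subgroup.center (SpecialLinearGroup (Fin 5) (ZMod 2)) := by
      rw [Subgroup.mem_center_iff] at h5 ⊢
      intro y
      have h6 := h5 (slO (K := K) (m := 5) (by norm_num) (SpecialLinearGroup.map σ.toRingHom y))
      rw [← map_mul, ← map_mul, ← map_mul, ← map_mul] at h6
      have h7 := slO_injective _ h6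
      have hinj : Function.Injective (SpecialLinearGroup.map (n := Fin 5) σ.toRingHom) := by
        intro u v huv
        apply Subtype.ext
        ext i j
        have h8 := congrFun (congrFun (congrArg Subtype.val huv) i) j
        exact σ.injective h8
      exact hinj h7
    obtain ⟨r, hr, hx'⟩ := Matrix.SpecialLinearGroup.mem_center_iff.1 h6
    have h8 : ∀ r : ZMod 2, r ^ 5 = 1 → r = 1 := by decide
    have h9 : r = 1 := h8 r (by simpa using hr)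
    apply Subtype.ext
    rw [← hx', h9]
    simp
  exact Cfsg.Agent.H223.Bnd.Bn.of_twentythree (d := 20)
    (fun p m hp h23 hpT hm hR => rep_le hp Nat.prime_two h3 hpT hR hN
      fun F _ hF => (Cfsg.Agent.H223.Bnd.Low.bd_sl52 hF).of_sub j hj) (haut.trans (by norm_num))

end Cfsg.Agent.H223.Bnd.H315.FineOrth
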