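import Cfsg.Agent.H698.Fine
import Cfsg.Agent.H912.BdOrth
import Cfsg.Agent.H315.FineNum
import Cfsg.Agent.S0292
import Cfsg.Agent.S0293
import Cfsg.Agent.S0294
import Cfsg.Agent.S0295
import Cfsg.Agent.S0296
import Cfsg.Agent.S0297
import Cfsg.Agent.S0816
import Cfsg.Agent.S0817
import Cfsg.Agent.S0818
import Cfsg.Agent.H223.Bnd.Base

/-!
# `Fine` for the orthogonal groups: the generic cases

`Cop r T` : kernels of perfect central extensions of `T` have order prime to `r` (this is `H912.Bd.NoR`).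
-/

set_option autoImplicit false

namespace Cfsg.Agent.H223.Bnd.H315.FineOrth
universe u v w

open Cfsg Cfsg.Agent.H698 Cfsg.Agent.H912.Bd Cfsg.Agent.H315.FineNum

/-- Kernels of perfect central extensions of `T` have order prime to `r`. -/
def Cop (r : ℕ) (T : Type v) [Group T] : Prop :=
  ∀ (P : Type w) [Group P], commutator P = ⊤ → ∀ π : P →* T, Function.Surjective π →
    π.ker ≤ Subgroup.center P → (Nat.card π.ker).Coprime r

theorem rep_le' {p m r d : ℕ} {T : Type v} [Group T] (hp : p.Prime) (hr : r.Prime) (hrp : p ≠ r)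
    (h : Rep.{v, w} p m T) (hN : Cop.{v, w} r T)
    (hB : ∀ (F : Type w) [Field F], (r : F) ≠ 0 → Bd F r d T) : d ≤ m := by
  obtain ⟨F, _, _, _, P, _, _, π, ρ, h1, h2, h3, h4, h5⟩ := h
  refine hB F ?_ m ⟨P, inferInstance, π, ρ, h1, ?_, hN P h3 π h1 h2, ?_⟩
  · rw [Ne, CharP.cast_eq_zero_iff F p]
    intro h6
    rw [Nat.prime_dvd_prime_iff_eq hp hr] at h6
    exact hrp h6
  · intro x hx y
    exact ((Subgroup.mem_center_iff.1 (h2 hx)) y).symm
  · rw [(MonoidHom.ker_eq_bot_iff ρ).2 h4]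
    exact bot_le

theorem rep_le {p m r d : ℕ} {T : Type v} [Group T] (hp : p.Prime) (hr : r.Prime) (hrT : r ∣ Nat.card T)
    (hpT : ¬ p ∣ Nat.card T) (h : Rep.{v, w} p m T) (hN : Cop.{v, w} r T)
    (hB : ∀ (F : Type w) [Field F], (r : F) ≠ 0 → Bd F r d T) : d ≤ m :=
  rep_le' hp hr (fun h6 => hpT (h6 ▸ hrT)) h hN hB

theorem center_eq_bot {T : Type v} [Group T] [IsSimpleGroup T] (hT : ¬ IsMulCommutative T) :
    Subgroup.center T = ⊥ := by
  rcases (inferInstance : (Subgroup.center T).Normal).eq_bot_or_eq_top with h | h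
  · exact h
  · exact absurd ⟨⟨fun a b => ((Subgroup.mem_center_iff.1 (h ▸ Subgroup.mem_top a : a ∈ Subgroup.center T)) b).symm⟩⟩ hT

/-- The form used for all families. -/
theorem fine_of_eleven {T : Type v} [Group T] [Finite T] (hc : Subgroup.center T = ⊥) (hT : 1 < Nat.card T) {r D : ℕ}
    (hr : r.Prime) (hrT : r ∣ Nat.card T) (hN : Cop.{v, w} r T)
    (hB : ∀ (F : Type w) [Field F], (r : F) ≠ 0 → Bd F r (D + 1) T) (h : Nat.card (MulAut T) ≤ 11 ^ D) :
    Cfsg.Agent.H223.Bnd.Bn.{v, w} T :=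
  Cfsg.Agent.H223.Bnd.Bn.of_eleven hc hT (fun _ _ hp _ hpT _ hR => rep_le hp hr hrT hpT hR hN hB) h


theorem not_comm {T : Type v} [Group T] [Finite T] [IsSimpleGroup T] {r : ℕ} (hr : r.Prime)
    (hrT : r ∣ Nat.card T) (h : r < Nat.card T) : ¬ IsMulCommutative T := by
  intro hc
  let _ : CommGroup T := { (inferInstance : Group T) with mul_comm := fun a b => hc.is_comm.comm a b }
  have h1 : (Nat.card T).Prime := IsSimpleGroup.prime_card
  have h2 := (Nat.prime_dvd_prime_iff_eq hr h1).1 hrT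
  omega

section

variable {K : Type} [Field K] [Fintype K]

theorem exists_pf : ∃ p f : ℕ, p.Prime ∧ 1 ≤ f ∧ Fintype.card K = p ^ f ∧ CharP K p := by
  obtain ⟨p, hp⟩ := CharP.exists K
  obtain ⟨⟨f, hf⟩, hpr, hc⟩ := FiniteField.card K p
  exact ⟨p, f, hpr, hf, hc, hp⟩

/-! ### `PΩ_{2m+1}(q)` -/

theorem card_odd {m : ℕ} (hm : 3 ≤ m) (ho : Odd (Fintype.card K)) :
    2 * Nat.card (Cfsg.POmega K (Cfsg.quadFormOdd m K)) ≤ Fintype.card K ^ (m * (2 * m + 1)) := by
  rw [Cfsg.Agent.S0292.result (F := K) rfl ho m hm]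
  calc _ ≤ Fintype.card K ^ m ^ 2 * Fintype.card K ^ (m * (m + 1)) := Nat.mul_le_mul_left _ (prod_le _ _)
    _ = _ := by rw [← pow_add]; congr 1; ring

theorem prod_pos' {q k : ℕ} (hq : 2 ≤ q) : 1 ≤ ∏ i ∈ Finset.range k, (q ^ (2 * (i + 1)) - 1) := by
  refine Finset.one_le_prod' fun i _ => ?_
  have h1 : 2 ^ 1 ≤ q ^ (2 * (i + 1)) := (Nat.pow_le_pow_left hq 1).trans (Nat.pow_le_pow_right (by omega) (by omega))
  omega

/-- From the order formula. -/
theorem basic {T : Type} [Group T] [Finite T] [IsSimpleGroup T] {r q g e A : ℕ} (hr : r.Prime) (hrq : r ∣ q) (hq : 2 ≤ q)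
    (hg : g ≤ 4) (hgr : ¬ r ∣ g) (he : 4 ≤ e) (hA : 1 ≤ A) (h : g * Nat.card T = q ^ e * A) :
    Subgroup.center T = ⊥ ∧ 1 < Nat.card T ∧ r ∣ Nat.card T := by
  have h1 : r ∣ Nat.card T := by
    have h2 : r ∣ g * Nat.card T := by
      rw [h]
      exact (hrq.trans (dvd_pow_self q (by omega))).mul_right A
    exact (hr.dvd_mul.1 h2).resolve_left hgr
  have h3 : 4 * q < g * Nat.card T := by
    rw [h]
    have h4 : q ^ 4 ≤ q ^ e := Nat.pow_le_pow_right (by omega) he
    have h5 : 4 * q < q ^ 4 ∨ q = 2 ∨ True := Or.inr (Or.inr trivial)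
    have h6 : q ^ e ≤ q ^ e * A := Nat.le_mul_of_pos_right _ hA
    have h7 : 8 * q ≤ q ^ 4 := by
      calc 8 * q = 2 ^ 3 * q := by norm_num
        _ ≤ q ^ 3 * q := Nat.mul_le_mul_right _ (Nat.pow_le_pow_left hq 3)
        _ = q ^ 4 := by ring
    omega
  have hrq' : r ≤ q := Nat.le_of_dvd (by omega) hrq
  have h8 : r < Nat.card T := by
    by_contra hcon
    have h9 : g * Nat.card T ≤ 4 * r := Nat.mul_le_mul hg (by omega)
    omega
  exact ⟨center_eq_bot (not_comm hr h1 h8), hr.one_lt.trans h8, h1⟩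

theorem fine_odd {r m : ℕ} (hr : r.Prime) (hK : CharP K r) (hm : 3 ≤ m) (ho : Odd (Fintype.card K))
    (h33 : ¬ (m = 3 ∧ Fintype.card K = 3)) (hN : Cop.{0, w} r (Cfsg.POmega K (Cfsg.quadFormOdd m K))) :
    Cfsg.Agent.H223.Bnd.Bn.{0, w} (Cfsg.POmega K (Cfsg.quadFormOdd m K)) := by
  obtain ⟨p, f, hp, hf, hq, hpK⟩ := exists_pf (K := K)
  obtain rfl : p = r := CharP.eq K hpK hK
  have := Fact.mk hp
  have hs : IsSimpleGroup (Cfsg.POmega K (Cfsg.quadFormOdd m K)) := Cfsg.Agent.S0295.result ho m hm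
  have : Finite (Cfsg.isometryGroup K (Cfsg.quadFormOdd m K)) := inferInstance
  have : Finite (Cfsg.POmega K (Cfsg.quadFormOdd m K)) := inferInstance
  have hpo : Odd p := by
    rw [hq] at ho
    exact Nat.Odd.of_mul_left (n := p ^ (f - 1)) (by rwa [← pow_succ', Nat.sub_add_cancel hf])
  have hq2 : 2 ≤ Fintype.card K := Fintype.one_lt_card
  have hq3 : 3 ≤ Fintype.card K := by
    obtain ⟨k, hk⟩ := ho
    omega
  obtain ⟨h1, h2, h3⟩ := basic (q := Fintype.card K) hp (by rw [hq]; exact dvd_pow_self p (by omega)) hq2 (by norm_num)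
    (fun h => by
      have := (Nat.prime_dvd_prime_iff_eq hp Nat.prime_two).1 h
      subst this
      exact absurd hpo (by decide)) (by nlinarith) (prod_pos' hq2) (Cfsg.Agent.S0292.result (F := K) rfl ho m hm)
  have haut : Nat.card (MulAut (Cfsg.POmega K (Cfsg.quadFormOdd m K))) ≤ Fintype.card K ^ (m * (2 * m + 1) + 1) := by
    rw [Cfsg.Agent.S0816.result (F := K) p f hf hq hpo m hm]
    have h4 := four_mul_le hp.two_le hf hq
    calc 2 * f * Nat.card (Cfsg.POmega K (Cfsg.quadFormOdd m K))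
        = f * (2 * Nat.card (Cfsg.POmega K (Cfsg.quadFormOdd m K))) := by ring
      _ ≤ Fintype.card K * Fintype.card K ^ (m * (2 * m + 1)) := Nat.mul_le_mul (by omega) (card_odd hm ho)
      _ = _ := by rw [pow_succ, mul_comm]
  rcases hm.eq_or_lt with rfl | hm4
  · have hq5 : 5 ≤ Fintype.card K := by
      obtain ⟨k, hk⟩ := ho
      have : Fintype.card K ≠ 3 := fun h => h33 ⟨rfl, h⟩
      omega
    have h5 : 5 ^ 3 ≤ Fintype.card K ^ 3 := Nat.pow_le_pow_left hq5 3
    refine fine_of_eleven (D := Fintype.card K ^ 3 - 2) h1 h2 hp h3 hN (fun F _ hF => ?_) (haut.trans (pow_le_eleven (by omega) ?_))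
    · exact (bd_pomega_odd_cube hp hF hK le_rfl).mono (by omega)
    · have h6 := minus_five (q := Fintype.card K) (by omega)
      omega
  · rcases (show 4 ≤ m from hm4).eq_or_lt with rfl | hm5
    · have h5 : 3 ^ 3 ≤ Fintype.card K ^ 3 := Nat.pow_le_pow_left hq3 3
      refine fine_of_eleven (D := Fintype.card K ^ 3 - 2) h1 h2 hp h3 hN (fun F _ hF => ?_) (haut.trans (pow_le_eleven (by omega) ?_))
      · exact (bd_pomega_odd_cube hp hF hK (by norm_num)).mono (by omega)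
      · have h6 := odd_four (q := Fintype.card K) (by omega)
        omega
    · have h5 : 3 ^ 4 ≤ Fintype.card K ^ (m - 1) :=
        (Nat.pow_le_pow_left hq3 4).trans (Nat.pow_le_pow_right (by omega) (by omega))
      refine fine_of_eleven (D := Fintype.card K ^ (m - 1) - 2) h1 h2 hp h3 hN (fun F _ hF => ?_) (haut.trans (pow_le_eleven (by omega) ?_))
      · exact (bd_pomega_odd_sl hp hF hK hm).mono (by omega)
      · have h6 := big (q := Fintype.card K) (m := m) (by omega) hm5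
        have h7 : m * (2 * m + 1) + 1 ≤ (m + 1) * (2 * m + 1) + 3 := by nlinarith
        have h8 : 3 * (m * (2 * m + 1) + 1) * (Fintype.card K - 1) ≤
            3 * ((m + 1) * (2 * m + 1) + 3) * (Fintype.card K - 1) := Nat.mul_le_mul_right _ (Nat.mul_le_mul_left _ h7)
        omega

/-! ### `PΩ⁺_{2m}(q)` -/

theorem not_dvd_gcd_sub {r q m : ℕ} (hr : r.Prime) (hq : 1 ≤ q) (hm : 1 ≤ m) (hrq : r ∣ q) : ¬ r ∣ Nat.gcd 4 (q ^ m - 1) := by
  intro h
  have h1 : r ∣ q ^ m - 1 := h.trans (Nat.gcd_dvd_right _ _)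
  have h2 : r ∣ q ^ m := dvd_pow hrq (by omega)
  have h3 : 1 ≤ q ^ m := Nat.one_le_pow _ _ (by omega)
  have h4 : r ∣ 1 := by
    have := Nat.dvd_sub h2 h1
    rwa [Nat.sub_sub_self h3] at this
  exact hr.one_lt.ne' (Nat.dvd_one.1 h4)

theorem not_dvd_gcd_add {r q m : ℕ} (hr : r.Prime) (hm : 1 ≤ m) (hrq : r ∣ q) : ¬ r ∣ Nat.gcd 4 (q ^ m + 1) := by
  intro h
  have h1 : r ∣ q ^ m + 1 := h.trans (Nat.gcd_dvd_right _ _)
  have h2 : r ∣ q ^ m := dvd_pow hrq (by omega)
  exact hr.one_lt.ne' (Nat.dvd_one.1 ((Nat.dvd_add_right h2).1 h1))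

theorem card_plus {m : ℕ} (hm : 4 ≤ m) :
    Nat.card (Cfsg.POmega K (Cfsg.quadFormPlus m K)) ≤ Fintype.card K ^ (m * (2 * m - 1)) := by
  have h1 := Cfsg.Agent.S0293.result (F := K) rfl m hm
  have h2 : 1 ≤ Nat.gcd 4 (Fintype.card K ^ m - 1) := Nat.gcd_pos_of_pos_left _ (by norm_num)
  refine (Nat.le_mul_of_pos_left _ h2).trans ?_
  rw [h1]
  have h3 : (m - 1) * (m - 1 + 1) = (m - 1) * m := by rw [Nat.sub_add_cancel (by omega)]
  calc _ ≤ Fintype.card K ^ (m * (m - 1)) * Fintype.card K ^ m * Fintype.card K ^ ((m - 1) * (m - 1 + 1)) :=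
        Nat.mul_le_mul (Nat.mul_le_mul_left _ (Nat.sub_le _ _)) (prod_le _ _)
    _ = _ := by
      rw [h3, ← pow_add, ← pow_add]
      congr 1
      obtain ⟨k, rfl⟩ : ∃ k, m = k + 1 := ⟨m - 1, by omega⟩
      have h4 : 2 * (k + 1) - 1 = 2 * k + 1 := by omega
      rw [h4, Nat.add_sub_cancel]
      ring

theorem fine_plus {r m : ℕ} (hr : r.Prime) (hK : CharP K r) (hm : 4 ≤ m)
    (h42 : ¬ (m = 4 ∧ Fintype.card K = 2)) (hN : Cop.{0, w} r (Cfsg.POmega K (Cfsg.quadFormPlus m K))) :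
    Cfsg.Agent.H223.Bnd.Bn.{0, w} (Cfsg.POmega K (Cfsg.quadFormPlus m K)) := by
  obtain ⟨p, f, hp, hf, hq, hpK⟩ := exists_pf (K := K)
  obtain rfl : p = r := CharP.eq K hpK hK
  have := Fact.mk hp
  have hs : IsSimpleGroup (Cfsg.POmega K (Cfsg.quadFormPlus m K)) := Cfsg.Agent.S0296.result m hm
  have : Finite (Cfsg.isometryGroup K (Cfsg.quadFormPlus m K)) := inferInstance
  have : Finite (Cfsg.POmega K (Cfsg.quadFormPlus m K)) := inferInstance
  have hq2 : 2 ≤ Fintype.card K := Fintype.one_lt_card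
  have hpq : p ∣ Fintype.card K := by rw [hq]; exact dvd_pow_self p (by omega)
  obtain ⟨h1, h2, h3⟩ := basic (q := Fintype.card K) (e := m * (m - 1)) (g := Nat.gcd 4 (Fintype.card K ^ m - 1))
    (A := (Fintype.card K ^ m - 1) * ∏ i ∈ Finset.range (m - 1), (Fintype.card K ^ (2 * (i + 1)) - 1))
    hp hpq hq2 (Nat.gcd_le_left _ (by norm_num)) (not_dvd_gcd_sub hp (by omega) (by omega) hpq)
    (by obtain ⟨k, rfl⟩ : ∃ k, m = k + 4 := ⟨m - 4, by omega⟩
        have : k + 4 - 1 = k + 3 := rfl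
        rw [this]
        nlinarith)
    (Nat.mul_pos (by
      have : 2 ^ 1 ≤ Fintype.card K ^ m := (Nat.pow_le_pow_left hq2 1).trans (Nat.pow_le_pow_right (by omega) (by omega))
      omega) (prod_pos' hq2)) (by rw [← mul_assoc]; exact Cfsg.Agent.S0293.result (F := K) rfl m hm)
  have h4 := four_mul_le hp.two_le hf hq
  have hcp := card_plus (K := K) hm
  have haut0 := Cfsg.Agent.S0817.result (F := K) p f hf hq m hm
  have hfac : (if p = 2 then 2 else (if Even (m * (p ^ f - 1) / 2) then 8 else 4)) ≤ 8 := by split_ifs <;> norm_num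
  rcases hm.eq_or_lt with rfl | hm5
  · have hq3 : 3 ≤ Fintype.card K := by
      have : Fintype.card K ≠ 2 := fun h => h42 ⟨rfl, h⟩
      omega
    have h5 : 3 ^ 3 ≤ Fintype.card K ^ 3 := Nat.pow_le_pow_left hq3 3
    have haut : Nat.card (MulAut (Cfsg.POmega K (Cfsg.quadFormPlus 4 K))) ≤ Fintype.card K ^ 32 := by
      rw [haut0, if_pos rfl]
      calc _ ≤ 3 * 8 * f * Fintype.card K ^ (4 * (2 * 4 - 1)) :=
            Nat.mul_le_mul (Nat.mul_le_mul_right _ (Nat.mul_le_mul_left _ hfac)) hcp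
        _ = (12 * (2 * f)) * Fintype.card K ^ 28 := by ring
        _ ≤ (Fintype.card K ^ 3 * Fintype.card K) * Fintype.card K ^ 28 :=
            Nat.mul_le_mul_right _ (Nat.mul_le_mul (by omega) h4)
        _ = _ := by ring
    refine fine_of_eleven (D := Fintype.card K ^ 3 - 2) h1 h2 hp h3 hN (fun F _ hF => ?_) (haut.trans (pow_le_eleven (by omega) ?_))
    · exact (bd_pomega_plus_cube hp hF hK (by norm_num)).mono (by omega)
    · have h6 := odd_four (q := Fintype.card K) (by omega)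
      omega
  · have haut : Nat.card (MulAut (Cfsg.POmega K (Cfsg.quadFormPlus m K))) ≤ Fintype.card K ^ (m * (2 * m - 1) + 3) := by
      rw [haut0, if_neg (by omega), one_mul]
      calc _ ≤ 8 * f * Fintype.card K ^ (m * (2 * m - 1)) := Nat.mul_le_mul (Nat.mul_le_mul_right _ hfac) hcp
        _ = (2 * 2 * (2 * f)) * Fintype.card K ^ (m * (2 * m - 1)) := by ring
        _ ≤ (Fintype.card K * Fintype.card K * Fintype.card K) * Fintype.card K ^ (m * (2 * m - 1)) :=
            Nat.mul_le_mul_right _ (Nat.mul_le_mul (Nat.mul_le_mul hq2 hq2) h4)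
        _ = _ := by ring
    have h7 : m * (2 * m - 1) + 3 ≤ (m + 1) * (2 * m + 1) + 3 :=
      Nat.add_le_add_right (Nat.mul_le_mul (by omega) (by omega)) 3
    have hslB : ∀ (F : Type w) [Field F], (p : F) ≠ 0 → 2 ≤ Fintype.card K ^ (m - 1) - 1 →
        Bd F p (Fintype.card K ^ (m - 1) - 2 + 1) (Cfsg.POmega K (Cfsg.quadFormPlus m K)) := fun F _ hF h9 =>
      (bd_pomega_plus_sl hp hF hK (by omega)).mono (by omega)
    have h16 : 2 ^ 4 ≤ Fintype.card K ^ (m - 1) :=
      (Nat.pow_le_pow_left hq2 4).trans (Nat.pow_le_pow_right (by omega) (by omega))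
    refine fine_of_eleven (D := Fintype.card K ^ (m - 1) - 2) h1 h2 hp h3 hN (fun F _ hF => hslB F hF (by omega)) (haut.trans ?_)
    rcases hq2.eq_or_lt with hq2' | hq3
    · rw [← hq2']
      rcases (show 5 ≤ m from hm5).eq_or_lt with rfl | hm6
      · norm_num
      · refine pow_le_eleven (by norm_num) ?_
        have h6 := big_two (m := m) hm6
        omega
    · refine pow_le_eleven (by omega) ?_
      have h6 := big (q := Fintype.card K) (m := m) (by omega) hm5
      have h8 : 3 * (m * (2 * m - 1) + 3) * (Fintype.card K - 1) ≤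
          3 * ((m + 1) * (2 * m + 1) + 3) * (Fintype.card K - 1) := Nat.mul_le_mul_right _ (Nat.mul_le_mul_left _ h7)
      omega

/-! ### `PΩ⁻_{2m}(q)` -/

theorem card_minus {m : ℕ} (hm : 4 ≤ m) (a b : K)
    (hab : ∀ z₁ z₂ : K, z₁ ^ 2 + a * z₁ * z₂ + b * z₂ ^ 2 = 0 → z₁ = 0 ∧ z₂ = 0) :
    Nat.card (Cfsg.POmega K (Cfsg.quadFormMinus (m - 1) K a b)) ≤ Fintype.card K ^ (m * (2 * m - 1)) := by
  have h1 := Cfsg.Agent.S0294.result (F := K) rfl m hm a b hab
  have h2 : 1 ≤ Nat.gcd 4 (Fintype.card K ^ m + 1) := Nat.gcd_pos_of_pos_left _ (by norm_num)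
  refine (Nat.le_mul_of_pos_left _ h2).trans ?_
  rw [h1]
  calc _ = Fintype.card K ^ (m * (m - 1)) * ((Fintype.card K ^ m + 1) *
        ∏ i ∈ Finset.range (m - 1), (Fintype.card K ^ (2 * (i + 1)) - 1)) := by rw [mul_assoc]
    _ ≤ Fintype.card K ^ (m * (m - 1)) * Fintype.card K ^ (m * m) :=
        Nat.mul_le_mul_left _ (prod_minus_le Fintype.card_pos (by omega))
    _ = _ := by
      rw [← pow_add]
      congr 1
      obtain ⟨k, rfl⟩ : ∃ k, m = k + 1 := ⟨m - 1, by omega⟩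
      have h4 : 2 * (k + 1) - 1 = 2 * k + 1 := by omega
      rw [h4, Nat.add_sub_cancel]
      ring

theorem minus_basic {p m f : ℕ} (hp : p.Prime) (hf : 1 ≤ f) (hq : Fintype.card K = p ^ f) (hm : 4 ≤ m) (a b : K)
    (hab : ∀ z₁ z₂ : K, z₁ ^ 2 + a * z₁ * z₂ + b * z₂ ^ 2 = 0 → z₁ = 0 ∧ z₂ = 0) :
    Subgroup.center (Cfsg.POmega K (Cfsg.quadFormMinus (m - 1) K a b)) = ⊥ ∧
      1 < Nat.card (Cfsg.POmega K (Cfsg.quadFormMinus (m - 1) K a b)) ∧
      p ∣ Nat.card (Cfsg.POmega K (Cfsg.quadFormMinus (m - 1) K a b)) := by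
  have hs : IsSimpleGroup (Cfsg.POmega K (Cfsg.quadFormMinus (m - 1) K a b)) := Cfsg.Agent.S0297.result m hm a b hab
  have : Finite (Cfsg.isometryGroup K (Cfsg.quadFormMinus (m - 1) K a b)) := inferInstance
  have : Finite (Cfsg.POmega K (Cfsg.quadFormMinus (m - 1) K a b)) := inferInstance
  have hq2 : 2 ≤ Fintype.card K := Fintype.one_lt_card
  have hpq : p ∣ Fintype.card K := by rw [hq]; exact dvd_pow_self p (by omega)
  refine basic (q := Fintype.card K) (e := m * (m - 1)) (g := Nat.gcd 4 (Fintype.card K ^ m + 1))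
    (A := (Fintype.card K ^ m + 1) * ∏ i ∈ Finset.range (m - 1), (Fintype.card K ^ (2 * (i + 1)) - 1))
    hp hpq hq2 (Nat.gcd_le_left _ (by norm_num)) (not_dvd_gcd_add hp (by omega) hpq)
    ?_ (Nat.mul_pos (Nat.succ_pos _) (prod_pos' hq2)) (by rw [← mul_assoc]; exact Cfsg.Agent.S0294.result (F := K) rfl m hm a b hab)
  obtain ⟨k, rfl⟩ : ∃ k, m = k + 4 := ⟨m - 4, by omega⟩
  have : k + 4 - 1 = k + 3 := rfl
  rw [this]
  nlinarith

theorem minus_aut {p m f : ℕ} (hp : p.Prime) (hf : 1 ≤ f) (hq : Fintype.card K = p ^ f) (hm : 4 ≤ m) (a b : K)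
    (hab : ∀ z₁ z₂ : K, z₁ ^ 2 + a * z₁ * z₂ + b * z₂ ^ 2 = 0 → z₁ = 0 ∧ z₂ = 0) :
    Nat.card (MulAut (Cfsg.POmega K (Cfsg.quadFormMinus (m - 1) K a b))) ≤ Fintype.card K ^ (m * (2 * m - 1) + 3) := by
  have := Fact.mk hp
  have hq2 : 2 ≤ Fintype.card K := Fintype.one_lt_card
  have h4 := four_mul_le hp.two_le hf hq
  have hfac : (if p = 2 then 2 else (if Even (m * (p ^ f - 1) / 2) then 4 else 8)) ≤ 8 := by split_ifs <;> norm_num
  rw [Cfsg.Agent.S0818.result (F := K) p f hf hq m hm a b hab]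
  calc _ ≤ 8 * f * Fintype.card K ^ (m * (2 * m - 1)) :=
        Nat.mul_le_mul (Nat.mul_le_mul_right _ hfac) (card_minus hm a b hab)
    _ = (2 * 2 * (2 * f)) * Fintype.card K ^ (m * (2 * m - 1)) := by ring
    _ ≤ (Fintype.card K * Fintype.card K * Fintype.card K) * Fintype.card K ^ (m * (2 * m - 1)) :=
        Nat.mul_le_mul_right _ (Nat.mul_le_mul (Nat.mul_le_mul hq2 hq2) h4)
    _ = _ := by ring

theorem minus_aut_two {m : ℕ} (h2 : Fintype.card K = 2) (hm : 4 ≤ m) (a b : K)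
    (hab : ∀ z₁ z₂ : K, z₁ ^ 2 + a * z₁ * z₂ + b * z₂ ^ 2 = 0 → z₁ = 0 ∧ z₂ = 0) :
    Nat.card (MulAut (Cfsg.POmega K (Cfsg.quadFormMinus (m - 1) K a b))) ≤ 2 ^ (m * (2 * m - 1) + 1) := by
  have := Fact.mk Nat.prime_two
  rw [Cfsg.Agent.S0818.result (F := K) 2 1 le_rfl (by rw [h2, pow_one]) m hm a b hab, if_pos rfl, mul_one, pow_succ,
    mul_comm]
  refine Nat.mul_le_mul_right _ ?_
  have h3 := card_minus hm a b hab
  rwa [h2] at h3

theorem fine_minus {r m : ℕ} (hr : r.Prime) (hK : CharP K r) (hm : 4 ≤ m) (a b : K)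
    (hab : ∀ z₁ z₂ : K, z₁ ^ 2 + a * z₁ * z₂ + b * z₂ ^ 2 = 0 → z₁ = 0 ∧ z₂ = 0)
    (h52 : ¬ (m = 5 ∧ Fintype.card K = 2)) (h62 : ¬ (m = 6 ∧ Fintype.card K = 2))
    (hN : Cop.{0, w} r (Cfsg.POmega K (Cfsg.quadFormMinus (m - 1) K a b))) :
    Cfsg.Agent.H223.Bnd.Bn.{0, w} (Cfsg.POmega K (Cfsg.quadFormMinus (m - 1) K a b)) := by
  obtain ⟨p, f, hp, hf, hq, hpK⟩ := exists_pf (K := K)
  obtain rfl : p = r := CharP.eq K hpK hK
  have := Fact.mk hp
  have : Finite (Cfsg.isometryGroup K (Cfsg.quadFormMinus (m - 1) K a b)) := inferInstance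
  have : Finite (Cfsg.POmega K (Cfsg.quadFormMinus (m - 1) K a b)) := inferInstance
  have hq2 : 2 ≤ Fintype.card K := Fintype.one_lt_card
  obtain ⟨h1, h2, h3⟩ := minus_basic hp hf hq hm a b hab
  have haut := minus_aut hp hf hq hm a b hab
  rcases hq2.eq_or_lt with hq2' | hq3
  · -- `q = 2`
    obtain rfl : p = 2 := by
      have h4 : p ∣ 2 := by rw [hq2', hq]; exact dvd_pow_self p (by omega)
      exact (Nat.prime_dvd_prime_iff_eq hp Nat.prime_two).1 h4
    have haut2 := minus_aut_two hq2'.symm hm a b hab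
    rcases hm.eq_or_lt with rfl | hm5
    · refine fine_of_eleven (D := 13) h1 h2 hp h3 hN (fun F _ hF => ?_) (haut2.trans (by norm_num))
      exact bd_pomega_minus_two (by exact_mod_cast hF) hq2'.symm (by norm_num) a b hab
    · have hm7 : 7 ≤ m := by
        rcases (show 5 ≤ m from hm5).eq_or_lt with h | hm6
        · exact absurd ⟨h.symm, hq2'.symm⟩ h52
        rcases (show 6 ≤ m from hm6).eq_or_lt with h | hm7
        · exact absurd ⟨h.symm, hq2'.symm⟩ h62
        exact hm7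
      have h16 : 2 ^ 5 ≤ 2 ^ (m - 2) := Nat.pow_le_pow_right (by omega) (by omega)
      refine fine_of_eleven (D := 2 ^ (m - 2) - 2) h1 h2 hp h3 hN (fun F _ hF => ?_) (haut2.trans ?_)
      · have h5 := bd_pomega_minus_sl (m := m - 1) hp hF hK (by omega) a b
        rw [← hq2'] at h5
        have h6 : m - 1 - 1 = m - 2 := by omega
        rw [h6] at h5
        exact h5.mono (by omega)
      · refine pow_le_eleven (by norm_num) ?_
        have h6 := big_two (m := m - 1) (by omega)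
        have h7 : m - 1 + 1 = m := by omega
        have h8 : 2 * (m - 1) + 1 = 2 * m - 1 := by omega
        have h9 : m - 1 - 1 = m - 2 := by omega
        rw [h7, h8, h9] at h6
        omega
  · -- `q ≥ 3`
    have h27 : 3 ^ 3 ≤ Fintype.card K ^ 3 := Nat.pow_le_pow_left hq3 3
    rcases hm.eq_or_lt with rfl | hm5
    · refine fine_of_eleven (D := Fintype.card K ^ 3 - 2) h1 h2 hp h3 hN (fun F _ hF => ?_) (haut.trans (pow_le_eleven (by omega) ?_))
      · exact (bd_pomega_minus_cube hp hF hK (by norm_num) a b).mono (by omega)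
      · have h6 := odd_four (q := Fintype.card K) (by omega)
        omega
    rcases (show 5 ≤ m from hm5).eq_or_lt with rfl | hm6
    · refine fine_of_eleven (D := Fintype.card K ^ 3 - 2) h1 h2 hp h3 hN (fun F _ hF => ?_) (haut.trans ?_)
      · exact (bd_pomega_minus_cube hp hF hK (by norm_num) a b).mono (by omega)
      · rcases (show 3 ≤ Fintype.card K from hq3).eq_or_lt with h | h
        · rw [← h]; norm_num
        · refine pow_le_eleven (by omega) ?_
          have h6 := minus_five (q := Fintype.card K) (by omega)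
          omega
    · have h81 : 3 ^ 4 ≤ Fintype.card K ^ (m - 2) :=
        (Nat.pow_le_pow_left hq3 4).trans (Nat.pow_le_pow_right (by omega) (by omega))
      refine fine_of_eleven (D := Fintype.card K ^ (m - 2) - 2) h1 h2 hp h3 hN (fun F _ hF => ?_) (haut.trans (pow_le_eleven (by omega) ?_))
      · have h5 := bd_pomega_minus_sl (m := m - 1) hp hF hK (by omega) a b
        have h6 : m - 1 - 1 = m - 2 := by omega
        rw [h6] at h5
        exact h5.mono (by omega)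
      · have h6 := big (q := Fintype.card K) (m := m - 1) (by omega) (by omega)
        have h7 : m - 1 + 1 = m := by omega
        have h8 : 2 * (m - 1) + 1 = 2 * m - 1 := by omega
        have h9 : m - 1 - 1 = m - 2 := by omega
        rw [h7, h8, h9] at h6
        omega

/-- `PΩ⁻_{10}(2)` -/
theorem fine_minus_five (hq : Fintype.card K = 2) (a b : K)
    (hab : ∀ z₁ z₂ : K, z₁ ^ 2 + a * z₁ * z₂ + b * z₂ ^ 2 = 0 → z₁ = 0 ∧ z₂ = 0)
    (hN : Cop.{0, w} 2 (Cfsg.POmega K (Cfsg.quadFormMinus (5 - 1) K a b))) :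
    Cfsg.Agent.H223.Bnd.Bn.{0, w} (Cfsg.POmega K (Cfsg.quadFormMinus (5 - 1) K a b)) := by
  have : Finite (Cfsg.isometryGroup K (Cfsg.quadFormMinus (5 - 1) K a b)) := inferInstance
  have : Finite (Cfsg.POmega K (Cfsg.quadFormMinus (5 - 1) K a b)) := inferInstance
  obtain ⟨h1, h2, h3⟩ := minus_basic Nat.prime_two le_rfl (by rw [hq, pow_one]) (by norm_num : 4 ≤ 5) a b hab
  have haut := minus_aut_two hq (by norm_num : 4 ≤ 5) a b hab
  have hcard := Cfsg.Agent.S0294.result (F := K) hq 5 (by norm_num) a b hab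
  refine Cfsg.Agent.H223.Bnd.Bn.of_lt5 h1 ?_ fun p m hp h11 hpT hm hR => ?_
  · norm_num [Finset.prod_range_succ] at hcard
    norm_num
    omega
  · have hm14 : 14 ≤ m := rep_le hp Nat.prime_two h3 hpT hR hN fun F _ hF =>
      bd_pomega_minus_two (by exact_mod_cast hF) hq (by norm_num) a b hab
    have h5 : p ^ 14 ≤ p ^ m := Nat.pow_le_pow_right hp.pos hm14
    rcases (show p = 11 ∨ 12 ≤ p by omega) with rfl | h12
    · calc _ ≤ (11 - 9) * 2 ^ (5 * (2 * 5 - 1) + 1) + 1 := Nat.add_le_add_right (Nat.mul_le_mul_left _ haut) 1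
        _ < 11 ^ 14 := by norm_num
        _ ≤ _ := h5
    · have h6 : 12 ^ 13 ≤ p ^ 13 := Nat.pow_le_pow_left h12 13
      have h7 : 2 ^ (5 * (2 * 5 - 1) + 1) ≤ p ^ 13 := le_trans (by norm_num) h6
      calc _ ≤ (p - 9) * p ^ 13 + 1 := Nat.add_le_add_right (Nat.mul_le_mul_left _ (haut.trans h7)) 1
        _ < p * p ^ 13 := by
          have h8 : 0 < p ^ 13 := Nat.pow_pos hp.pos
          obtain ⟨c, rfl⟩ : ∃ c, p = c + 12 := ⟨p - 12, by omega⟩
          have h9 : c + 12 - 9 = c + 3 := by omega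
          rw [h9]
          nlinarith
        _ = p ^ 14 := by ring
        _ ≤ _ := h5

end

end Cfsg.Agent.H223.Bnd.H315.FineOrth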