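import Cfsg.Agent.H912.BdOrth3
import Cfsg.Agent.H315.FineFive
import Cfsg.Agent.H223.Bnd.Orth
import Cfsg.Agent.H223.Bnd.Base

/-!
# `PΩ⁺₈(2)`: the bound `8` from `5² : Q₈`
-/

set_option autoImplicit false

namespace Cfsg.Agent.H223.Bnd.H315.FineOrth
universe u v w

open Cfsg Cfsg.Agent.H698 Cfsg.Agent.H912.Bd Cfsg.Agent.H315.FineNum Cfsg.Agent.H315.FineOrth Matrix
open scoped commutatorElement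

/-- indices -/
abbrev J8 := Fin 4 ⊕ Fin 4

/-- the plus type form over `F_2` -/
abbrev QJ : (J8 → ZMod 2) → ZMod 2 := Cfsg.quadFormPlus 4 (ZMod 2)

/-- numbering -/
def ixJ : J8 → ℕ
  | .inl i => i
  | .inr i => 4 + i

/-- matrices from tables -/
def tabJ (l : List (List (ZMod 2))) : Matrix J8 J8 (ZMod 2) := Matrix.of fun i j => (l.getD (ixJ i) []).getD (ixJ j) 0

theorem allJ (P : (J8 → ZMod 2) → Prop)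
    (h : ∀ a b c d e f g k : ZMod 2, P (Sum.elim ![a, b, c, d] ![e, f, g, k])) (v : J8 → ZMod 2) : P v := by
  have h1 : v = Sum.elim ![v (.inl 0), v (.inl 1), v (.inl 2), v (.inl 3)]
      ![v (.inr 0), v (.inr 1), v (.inr 2), v (.inr 3)] := by
    funext i
    rcases i with i | i <;> fin_cases i <;> rfl
  rw [h1]
  exact h _ _ _ _ _ _ _ _

/-- an isometry -/
def mkJ (M N : Matrix J8 J8 (ZMod 2)) (h1 : M * N = 1) (h2 : N * M = 1)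
    (hQ : ∀ a b c d e f g k : ZMod 2, QJ (M *ᵥ Sum.elim ![a, b, c, d] ![e, f, g, k])
      = QJ (Sum.elim ![a, b, c, d] ![e, f, g, k])) : Cfsg.isometryGroup (ZMod 2) QJ :=
  ⟨⟨M, N, h1, h2⟩, fun u _ => allJ (fun v => QJ (M *ᵥ v) = QJ v) hQ u⟩

def oE1 : Matrix J8 J8 (ZMod 2) := tabJ [[0, 0, 1, 1, 1, 0, 1, 1], [0, 0, 0, 1, 1, 0, 1, 0], [1, 0, 0, 1, 1, 0, 1, 1],
  [0, 1, 1, 0, 0, 0, 0, 1], [0, 0, 0, 0, 0, 1, 1, 0], [1, 0, 0, 1, 0, 1, 0, 0],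
  [0, 1, 1, 1, 0, 0, 1, 1], [1, 0, 0, 1, 1, 1, 1, 1]]
def oE1i : Matrix J8 J8 (ZMod 2) := tabJ [[0, 0, 0, 1, 1, 1, 1, 0], [1, 1, 0, 1, 0, 0, 0, 0], [1, 0, 1, 1, 1, 1, 1, 0],
  [0, 0, 1, 1, 1, 0, 1, 1], [0, 1, 0, 1, 0, 0, 1, 0], [0, 0, 1, 0, 0, 0, 0, 1],
  [0, 0, 1, 0, 1, 0, 0, 1], [0, 1, 1, 1, 1, 1, 1, 0]]
def oE1s : Matrix J8 J8 (ZMod 2) := tabJ [[0, 0, 0, 1, 0, 0, 0, 0], [0, 0, 0, 1, 0, 1, 0, 0], [1, 0, 1, 1, 0, 0, 0, 0],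
  [0, 0, 0, 1, 1, 1, 1, 0], [1, 1, 1, 0, 0, 1, 1, 1], [1, 1, 0, 0, 1, 1, 1, 0],
  [0, 0, 0, 0, 1, 1, 0, 0], [0, 0, 1, 0, 0, 1, 0, 0]]
def oE1c : Matrix J8 J8 (ZMod 2) := tabJ [[0, 1, 1, 0, 0, 0, 0, 1], [1, 1, 1, 1, 0, 1, 0, 1], [1, 1, 0, 0, 0, 0, 0, 1],
  [1, 0, 0, 0, 0, 0, 0, 0], [1, 1, 0, 0, 0, 0, 1, 0], [1, 1, 0, 0, 0, 0, 0, 0],
  [1, 0, 0, 1, 0, 0, 1, 0], [0, 0, 0, 0, 1, 1, 1, 1]]
def oE2 : Matrix J8 J8 (ZMod 2) := tabJ [[0, 0, 1, 1, 1, 1, 1, 1], [1, 1, 1, 0, 1, 1, 0, 1], [0, 0, 1, 0, 1, 1, 0, 1],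
  [1, 0, 1, 0, 1, 1, 1, 1], [0, 1, 1, 0, 1, 1, 1, 0], [0, 0, 0, 1, 0, 1, 1, 0],
  [0, 1, 1, 1, 0, 1, 1, 0], [0, 0, 0, 1, 1, 1, 1, 0]]
def oE2i : Matrix J8 J8 (ZMod 2) := tabJ [[1, 0, 0, 1, 1, 1, 1, 1], [1, 1, 1, 1, 1, 1, 1, 1], [1, 1, 1, 1, 1, 0, 0, 1],
  [0, 0, 0, 0, 1, 1, 1, 1], [0, 0, 0, 0, 0, 1, 0, 1], [1, 0, 1, 0, 0, 1, 0, 0],
  [1, 0, 1, 0, 1, 1, 1, 1], [0, 1, 1, 1, 1, 0, 0, 0]]
def oE2s : Matrix J8 J8 (ZMod 2) := tabJ [[1, 0, 0, 1, 0, 0, 1, 0], [1, 0, 0, 1, 1, 0, 0, 1], [0, 1, 0, 0, 1, 0, 1, 1],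
  [0, 0, 0, 0, 0, 0, 1, 0], [1, 1, 0, 0, 1, 1, 1, 0], [1, 1, 0, 0, 1, 1, 1, 1],
  [0, 0, 0, 0, 1, 1, 1, 1], [1, 0, 1, 0, 0, 0, 0, 1]]
def oE2c : Matrix J8 J8 (ZMod 2) := tabJ [[1, 1, 1, 0, 0, 1, 1, 0], [1, 1, 1, 0, 0, 0, 0, 0], [1, 1, 1, 0, 1, 0, 1, 1],
  [0, 1, 1, 1, 0, 1, 1, 0], [1, 1, 0, 1, 1, 1, 0, 0], [1, 1, 0, 0, 0, 0, 1, 0],
  [0, 0, 0, 1, 0, 0, 0, 0], [0, 0, 0, 0, 1, 1, 0, 0]]
def oI : Matrix J8 J8 (ZMod 2) := tabJ [[0, 0, 1, 1, 0, 1, 0, 0], [0, 1, 0, 0, 0, 0, 1, 0], [1, 1, 1, 0, 1, 1, 0, 1],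
  [0, 1, 1, 0, 1, 1, 1, 0], [0, 0, 0, 0, 0, 0, 0, 1], [0, 0, 0, 0, 0, 1, 1, 1],
  [0, 0, 0, 0, 1, 0, 0, 0], [0, 0, 0, 0, 1, 0, 1, 1]]
def oIi : Matrix J8 J8 (ZMod 2) := tabJ [[0, 0, 1, 1, 0, 0, 1, 1], [0, 1, 0, 0, 1, 0, 1, 1], [0, 1, 0, 1, 0, 1, 0, 1],
  [1, 1, 0, 1, 0, 0, 1, 0], [0, 0, 0, 0, 0, 0, 1, 0], [0, 0, 0, 0, 0, 1, 1, 1],
  [0, 0, 0, 0, 1, 0, 1, 1], [0, 0, 0, 0, 1, 0, 0, 0]]
def oJ : Matrix J8 J8 (ZMod 2) := tabJ [[0, 0, 1, 1, 1, 1, 1, 1], [1, 1, 1, 1, 0, 0, 0, 0], [0, 0, 0, 1, 1, 0, 1, 0],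
  [1, 0, 0, 1, 1, 1, 1, 1], [0, 0, 0, 0, 0, 1, 1, 0], [0, 0, 0, 0, 0, 1, 0, 0],
  [0, 0, 0, 0, 1, 1, 1, 1], [0, 0, 0, 0, 1, 1, 0, 0]]
def oJi : Matrix J8 J8 (ZMod 2) := tabJ [[0, 0, 1, 1, 1, 0, 1, 1], [1, 1, 1, 1, 1, 0, 0, 1], [1, 0, 1, 0, 1, 0, 1, 1],
  [0, 0, 1, 0, 1, 0, 0, 1], [0, 0, 0, 0, 0, 1, 0, 1], [0, 0, 0, 0, 0, 1, 0, 0],
  [0, 0, 0, 0, 1, 1, 0, 0], [0, 0, 0, 0, 1, 1, 1, 1]]
def oSg : Matrix J8 J8 (ZMod 2) := tabJ [[1, 0, 0, 0, 0, 0, 0, 0], [0, 1, 0, 0, 0, 0, 1, 0], [1, 0, 1, 0, 0, 1, 0, 1],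
  [1, 0, 0, 1, 0, 0, 1, 0], [0, 0, 0, 0, 1, 0, 1, 1], [0, 0, 0, 0, 0, 1, 0, 0],
  [0, 0, 0, 0, 0, 0, 1, 0], [0, 0, 0, 0, 0, 0, 0, 1]]
def oSgi : Matrix J8 J8 (ZMod 2) := tabJ [[1, 0, 0, 0, 0, 0, 0, 0], [0, 1, 0, 0, 0, 0, 1, 0], [1, 0, 1, 0, 0, 1, 0, 1],
  [1, 0, 0, 1, 0, 0, 1, 0], [0, 0, 0, 0, 1, 0, 1, 1], [0, 0, 0, 0, 0, 1, 0, 0],
  [0, 0, 0, 0, 0, 0, 1, 0], [0, 0, 0, 0, 0, 0, 0, 1]]
def oPh : Matrix J8 J8 (ZMod 2) := tabJ [[1, 1, 1, 1, 1, 1, 1, 1], [1, 0, 0, 0, 0, 1, 0, 0], [0, 1, 0, 1, 1, 1, 1, 1],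
  [1, 0, 1, 0, 0, 1, 0, 1], [1, 0, 1, 1, 0, 0, 1, 1], [0, 0, 0, 0, 1, 0, 1, 0],
  [1, 0, 1, 1, 0, 1, 1, 1], [1, 0, 1, 1, 0, 1, 0, 0]]
def oPhi : Matrix J8 J8 (ZMod 2) := tabJ [[0, 1, 0, 0, 1, 0, 1, 0], [0, 0, 1, 1, 1, 1, 1, 1], [1, 1, 1, 0, 1, 0, 1, 0],
  [1, 0, 1, 0, 1, 0, 1, 1], [1, 0, 1, 1, 1, 1, 0, 1], [0, 0, 0, 0, 1, 0, 1, 0],
  [1, 0, 1, 1, 1, 0, 0, 1], [1, 0, 1, 1, 1, 0, 1, 0]]
def oDe : Matrix J8 J8 (ZMod 2) := tabJ [[0, 0, 1, 1, 1, 0, 1, 1], [1, 1, 1, 1, 0, 1, 0, 1], [1, 0, 0, 1, 1, 0, 1, 1],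
  [0, 0, 0, 1, 1, 1, 1, 0], [0, 0, 0, 0, 0, 1, 1, 0], [0, 0, 0, 0, 0, 1, 0, 0],
  [0, 0, 0, 0, 1, 1, 0, 0], [0, 0, 0, 0, 1, 1, 1, 1]]
def oDei : Matrix J8 J8 (ZMod 2) := tabJ [[0, 0, 1, 1, 1, 0, 1, 1], [1, 1, 1, 1, 0, 1, 0, 1], [1, 0, 0, 1, 1, 0, 1, 1],
  [0, 0, 0, 1, 1, 1, 1, 0], [0, 0, 0, 0, 0, 1, 1, 0], [0, 0, 0, 0, 0, 1, 0, 0],
  [0, 0, 0, 0, 1, 1, 0, 0], [0, 0, 0, 0, 1, 1, 1, 1]]
def oS : Matrix J8 J8 (ZMod 2) := tabJ [[0, 0, 1, 1, 1, 1, 1, 1], [0, 1, 1, 1, 1, 1, 0, 1], [0, 0, 0, 1, 1, 0, 1, 0],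
  [0, 0, 1, 0, 1, 1, 0, 1], [1, 0, 1, 1, 0, 0, 0, 0], [0, 0, 0, 0, 0, 1, 0, 0],
  [1, 0, 1, 1, 1, 1, 0, 1], [1, 0, 1, 1, 1, 1, 1, 0]]
def oSi : Matrix J8 J8 (ZMod 2) := tabJ [[0, 0, 1, 1, 1, 1, 1, 1], [0, 1, 1, 1, 1, 1, 0, 1], [0, 0, 0, 1, 1, 0, 1, 0],
  [0, 0, 1, 0, 1, 1, 0, 1], [1, 0, 1, 1, 0, 0, 0, 0], [0, 0, 0, 0, 0, 1, 0, 0],
  [1, 0, 1, 1, 1, 1, 0, 1], [1, 0, 1, 1, 1, 1, 1, 0]]
def oG : Matrix J8 J8 (ZMod 2) := tabJ [[0, 1, 0, 0, 0, 0, 0, 1], [1, 1, 0, 1, 1, 1, 0, 0], [1, 1, 1, 1, 1, 1, 0, 0],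
  [1, 1, 0, 0, 0, 0, 0, 0], [1, 1, 0, 1, 0, 0, 0, 0], [1, 0, 0, 0, 0, 0, 1, 0],
  [1, 1, 0, 0, 0, 0, 1, 0], [0, 0, 1, 0, 1, 0, 0, 1]]
def oGi : Matrix J8 J8 (ZMod 2) := tabJ [[0, 0, 0, 1, 0, 1, 1, 0], [0, 0, 0, 0, 0, 1, 1, 0], [0, 1, 1, 0, 0, 0, 0, 0],
  [0, 0, 0, 1, 1, 0, 0, 0], [1, 1, 1, 0, 0, 1, 1, 1], [1, 0, 1, 0, 1, 1, 1, 1],
  [0, 0, 0, 1, 0, 0, 1, 0], [1, 0, 0, 0, 0, 1, 1, 0]]
def oE12 : Matrix J8 J8 (ZMod 2) := tabJ [[1, 0, 0, 0, 0, 1, 0, 0], [1, 0, 1, 1, 0, 1, 1, 1], [1, 0, 0, 1, 0, 1, 1, 0],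
  [1, 1, 0, 1, 1, 1, 1, 0], [0, 1, 1, 0, 0, 0, 0, 0], [1, 0, 0, 0, 0, 1, 1, 0],
  [0, 0, 0, 0, 0, 1, 1, 1], [1, 0, 0, 0, 0, 0, 0, 0]]
def oX1 : Matrix J8 J8 (ZMod 2) := tabJ [[0, 1, 1, 0, 1, 1, 1, 0], [0, 1, 1, 0, 1, 0, 0, 1], [1, 0, 1, 1, 0, 1, 1, 1],
  [0, 1, 1, 0, 0, 0, 0, 0], [1, 0, 0, 1, 1, 1, 1, 1], [0, 1, 1, 1, 1, 0, 0, 0],
  [0, 0, 0, 0, 0, 1, 1, 0], [1, 1, 1, 0, 1, 0, 1, 0]]
def oX2 : Matrix J8 J8 (ZMod 2) := tabJ [[1, 0, 0, 1, 0, 1, 0, 0], [1, 0, 0, 1, 1, 0, 1, 1], [1, 0, 0, 1, 1, 0, 0, 1],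
  [1, 1, 0, 0, 1, 1, 1, 0], [0, 0, 0, 1, 1, 1, 1, 0], [0, 1, 1, 1, 1, 1, 1, 0],
  [0, 1, 1, 0, 1, 1, 1, 0], [0, 0, 0, 0, 0, 1, 1, 0]]
def oX3 : Matrix J8 J8 (ZMod 2) := tabJ [[1, 0, 0, 0, 0, 1, 0, 0], [1, 1, 0, 1, 1, 0, 1, 1], [0, 0, 0, 1, 0, 1, 0, 0],
  [0, 0, 1, 0, 0, 1, 0, 0], [1, 1, 1, 0, 0, 1, 1, 1], [1, 0, 0, 1, 0, 1, 0, 0],
  [0, 1, 1, 1, 1, 1, 1, 0], [1, 0, 0, 1, 0, 0, 1, 0]]
def oX4 : Matrix J8 J8 (ZMod 2) := tabJ [[1, 0, 0, 1, 0, 0, 1, 0], [0, 1, 0, 1, 0, 0, 0, 0], [1, 0, 1, 1, 0, 1, 1, 1],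
  [1, 0, 0, 0, 0, 0, 0, 0], [0, 1, 1, 0, 0, 0, 0, 0], [0, 0, 0, 1, 0, 1, 1, 0],
  [0, 0, 0, 1, 0, 0, 0, 0], [0, 1, 1, 1, 1, 0, 0, 0]]
def oY1 : Matrix J8 J8 (ZMod 2) := tabJ [[0, 1, 1, 0, 0, 0, 0, 1], [0, 1, 0, 0, 0, 0, 0, 0], [1, 1, 0, 0, 0, 0, 0, 1],
  [0, 0, 1, 1, 1, 0, 1, 1], [1, 1, 0, 0, 0, 0, 1, 0], [1, 1, 0, 0, 1, 1, 1, 0],
  [0, 0, 1, 0, 1, 0, 0, 1], [0, 0, 0, 0, 0, 0, 0, 1]]
def oY2 : Matrix J8 J8 (ZMod 2) := tabJ [[0, 0, 1, 1, 1, 0, 1, 1], [0, 1, 1, 0, 1, 0, 0, 1], [1, 0, 1, 0, 1, 0, 1, 1],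
  [0, 0, 1, 0, 1, 0, 0, 1], [1, 1, 1, 0, 1, 0, 1, 0], [1, 0, 0, 1, 0, 1, 0, 0],
  [0, 1, 1, 1, 0, 0, 1, 1], [1, 0, 0, 1, 1, 1, 1, 1]]
def oY3 : Matrix J8 J8 (ZMod 2) := tabJ [[1, 1, 1, 1, 1, 0, 0, 1], [1, 0, 0, 0, 0, 1, 0, 0], [1, 1, 0, 1, 1, 1, 0, 0],
  [0, 0, 1, 0, 0, 0, 0, 0], [1, 0, 1, 1, 0, 1, 0, 0], [0, 0, 0, 0, 1, 0, 0, 1],
  [1, 0, 1, 1, 0, 0, 0, 0], [1, 0, 1, 1, 0, 0, 1, 1]]
def oY4 : Matrix J8 J8 (ZMod 2) := tabJ [[1, 1, 1, 1, 1, 1, 1, 1], [0, 0, 1, 1, 0, 0, 1, 1], [0, 0, 0, 1, 1, 1, 1, 0],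
  [1, 1, 1, 0, 1, 1, 0, 1], [1, 0, 1, 1, 0, 0, 0, 0], [0, 0, 0, 0, 1, 0, 1, 0],
  [1, 0, 1, 1, 0, 1, 1, 1], [1, 0, 1, 1, 0, 1, 0, 0]]
def oY5 : Matrix J8 J8 (ZMod 2) := tabJ [[1, 0, 0, 0, 0, 1, 0, 1], [1, 0, 0, 1, 1, 0, 1, 1], [1, 1, 0, 1, 0, 0, 1, 0],
  [1, 0, 0, 0, 0, 1, 1, 1], [0, 1, 1, 1, 1, 1, 0, 1], [1, 0, 0, 0, 0, 0, 1, 0],
  [0, 0, 0, 0, 0, 1, 1, 0], [1, 1, 1, 0, 1, 1, 0, 1]]
def oY6 : Matrix J8 J8 (ZMod 2) := tabJ [[1, 1, 0, 0, 0, 0, 1, 1], [1, 1, 0, 1, 1, 0, 1, 1], [1, 1, 0, 0, 0, 0, 0, 1],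
  [0, 1, 0, 0, 0, 0, 1, 0], [0, 1, 1, 0, 1, 1, 1, 1], [1, 0, 0, 0, 0, 0, 1, 0],
  [1, 1, 1, 1, 1, 1, 1, 1], [0, 0, 0, 1, 0, 1, 0, 0]]

theorem m_oE1_oE1 : oE1 * oE1 = oE1s := by decide +kernel
theorem m_oE1s_oE1 : oE1s * oE1 = oE1c := by decide +kernel
theorem m_oE1s_oE1s : oE1s * oE1s = oE1i := by decide +kernel
theorem m_oE1_oE1s : oE1 * oE1s = oE1c := by decide +kernel
theorem m_oE2_oE2 : oE2 * oE2 = oE2s := by decide +kernel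
theorem m_oE2s_oE2 : oE2s * oE2 = oE2c := by decide +kernel
theorem m_oE2s_oE2s : oE2s * oE2s = oE2i := by decide +kernel
theorem m_oE1_oE2 : oE1 * oE2 = oE12 := by decide +kernel
theorem m_oE2_oE1 : oE2 * oE1 = oE12 := by decide +kernel
theorem m_oI_oE1 : oI * oE1 = oX1 := by decide +kernel
theorem m_oE1s_oI : oE1s * oI = oX1 := by decide +kernel
theorem m_oI_oE2 : oI * oE2 = oX2 := by decide +kernel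
theorem m_oE2c_oI : oE2c * oI = oX2 := by decide +kernel
theorem m_oJ_oE1 : oJ * oE1 = oX3 := by decide +kernel
theorem m_oE2_oJ : oE2 * oJ = oX3 := by decide +kernel
theorem m_oJ_oE2 : oJ * oE2 = oX4 := by decide +kernel
theorem m_oE1i_oJ : oE1i * oJ = oX4 := by decide +kernel
theorem m_oDe_oE1s : oDe * oE1s = oY1 := by decide +kernel
theorem m_oE1c_oDe : oE1c * oDe = oY1 := by decide +kernel
theorem m_oSg_oE1 : oSg * oE1 = oY2 := by decide +kernel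
theorem m_oE2_oSg : oE2 * oSg = oY2 := by decide +kernel
theorem m_oPh_oSg : oPh * oSg = oY3 := by decide +kernel
theorem m_oSg_oPh : oSg * oPh = oY4 := by decide +kernel
theorem m_oI_oY4 : oI * oY4 = oY3 := by decide +kernel
theorem m_oS_oG : oS * oG = oY5 := by decide +kernel
theorem m_oG_oS : oG * oS = oY6 := by decide +kernel
theorem m_oJ_oY6 : oJ * oY6 = oY5 := by decide +kernel
theorem r_oE1 : oE1 * oE1i = 1 := by decide +kernel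
theorem l_oE1 : oE1i * oE1 = 1 := by decide +kernel
theorem r_oE2 : oE2 * oE2i = 1 := by decide +kernel
theorem l_oE2 : oE2i * oE2 = 1 := by decide +kernel
theorem r_oI : oI * oIi = 1 := by decide +kernel
theorem l_oI : oIi * oI = 1 := by decide +kernel
theorem r_oJ : oJ * oJi = 1 := by decide +kernel
theorem l_oJ : oJi * oJ = 1 := by decide +kernel
theorem r_oSg : oSg * oSgi = 1 := by decide +kernel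
theorem l_oSg : oSgi * oSg = 1 := by decide +kernel
theorem r_oPh : oPh * oPhi = 1 := by decide +kernel
theorem l_oPh : oPhi * oPh = 1 := by decide +kernel
theorem r_oDe : oDe * oDei = 1 := by decide +kernel
theorem l_oDe : oDei * oDe = 1 := by decide +kernel
theorem r_oS : oS * oSi = 1 := by decide +kernel
theorem l_oS : oSi * oS = 1 := by decide +kernel
theorem r_oG : oG * oGi = 1 := by decide +kernel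
theorem l_oG : oGi * oG = 1 := by decide +kernel

def iE1 : Cfsg.isometryGroup (ZMod 2) QJ := mkJ oE1 oE1i r_oE1 l_oE1 (by decide +kernel)
def iE2 : Cfsg.isometryGroup (ZMod 2) QJ := mkJ oE2 oE2i r_oE2 l_oE2 (by decide +kernel)
def iI : Cfsg.isometryGroup (ZMod 2) QJ := mkJ oI oIi r_oI l_oI (by decide +kernel)
def iJ : Cfsg.isometryGroup (ZMod 2) QJ := mkJ oJ oJi r_oJ l_oJ (by decide +kernel)
def iSg : Cfsg.isometryGroup (ZMod 2) QJ := mkJ oSg oSgi r_oSg l_oSg (by decide +kernel)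
def iPh : Cfsg.isometryGroup (ZMod 2) QJ := mkJ oPh oPhi r_oPh l_oPh (by decide +kernel)
def iDe : Cfsg.isometryGroup (ZMod 2) QJ := mkJ oDe oDei r_oDe l_oDe (by decide +kernel)
def iS : Cfsg.isometryGroup (ZMod 2) QJ := mkJ oS oSi r_oS l_oS (by decide +kernel)
def iG : Cfsg.isometryGroup (ZMod 2) QJ := mkJ oG oGi r_oG l_oG (by decide +kernel)

/-- the matrix -/
abbrev mat (x : Cfsg.isometryGroup (ZMod 2) QJ) : Matrix J8 J8 (ZMod 2) := ((x : GL J8 (ZMod 2)) : Matrix J8 J8 (ZMod 2))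

theorem extI {x y : Cfsg.isometryGroup (ZMod 2) QJ} (h : mat x = mat y) : x = y := Subtype.ext (Units.ext h)

theorem mem_comm {x a b : Cfsg.isometryGroup (ZMod 2) QJ} (h : a * b = x * (b * a)) :
    x ∈ commutator (Cfsg.isometryGroup (ZMod 2) QJ) := by
  have h1 : x = ⁅a, b⁆ := by
    rw [commutatorElement_def, h]
    group
  rw [h1, commutator_def]
  exact Subgroup.commutator_mem_commutator (Subgroup.mem_top _) (Subgroup.mem_top _)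

theorem iE1_mem : iE1 ∈ commutator (Cfsg.isometryGroup (ZMod 2) QJ) := by
  refine mem_comm (a := iDe) (b := iE1 * iE1) (extI ?_)
  change oDe * (oE1 * oE1) = oE1 * ((oE1 * oE1) * oDe)
  rw [← Matrix.mul_assoc oE1, m_oE1_oE1, m_oE1_oE1s, m_oDe_oE1s, m_oE1c_oDe]

theorem iE2_mem : iE2 ∈ commutator (Cfsg.isometryGroup (ZMod 2) QJ) := by
  have h1 : iSg * iE1 = iE2 * iSg := extI (by
    change oSg * oE1 = oE2 * oSg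
    rw [m_oSg_oE1, m_oE2_oSg])
  have h2 : iE2 = iSg * iE1 * iSg⁻¹ := by rw [h1, mul_inv_cancel_right]
  rw [h2]
  exact (inferInstance : (commutator (Cfsg.isometryGroup (ZMod 2) QJ)).Normal).conj_mem _ iE1_mem _

theorem iI_mem : iI ∈ commutator (Cfsg.isometryGroup (ZMod 2) QJ) := by
  refine mem_comm (a := iPh) (b := iSg) (extI ?_)
  change oPh * oSg = oI * (oSg * oPh)
  rw [m_oPh_oSg, m_oSg_oPh, m_oI_oY4]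

theorem iJ_mem : iJ ∈ commutator (Cfsg.isometryGroup (ZMod 2) QJ) := by
  refine mem_comm (a := iS) (b := iG) (extI ?_)
  change oS * oG = oJ * (oG * oS)
  rw [m_oS_oG, m_oG_oS, m_oJ_oY6]

def xE1 : Cfsg.Omega (ZMod 2) QJ := ⟨iE1, iE1_mem⟩
def xE2 : Cfsg.Omega (ZMod 2) QJ := ⟨iE2, iE2_mem⟩
def xI : Cfsg.Omega (ZMod 2) QJ := ⟨iI, iI_mem⟩
def xJ : Cfsg.Omega (ZMod 2) QJ := ⟨iJ, iJ_mem⟩

/-- the matrix -/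
abbrev matO (x : Cfsg.Omega (ZMod 2) QJ) : Matrix J8 J8 (ZMod 2) := mat (x : Cfsg.isometryGroup (ZMod 2) QJ)

theorem extO {x y : Cfsg.Omega (ZMod 2) QJ} (h : matO x = matO y) : x = y := Subtype.ext (extI h)

theorem xE1_five : xE1 ^ 5 = 1 := by
  rw [show xE1 ^ 5 = xE1 * ((xE1 * xE1) * (xE1 * xE1)) by simp only [pow_succ, pow_zero, one_mul, mul_assoc]]
  refine extO ?_
  change oE1 * ((oE1 * oE1) * (oE1 * oE1)) = 1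
  rw [m_oE1_oE1, m_oE1s_oE1s, r_oE1]

theorem xE2_five : xE2 ^ 5 = 1 := by
  rw [show xE2 ^ 5 = xE2 * ((xE2 * xE2) * (xE2 * xE2)) by simp only [pow_succ, pow_zero, one_mul, mul_assoc]]
  refine extO ?_
  change oE2 * ((oE2 * oE2) * (oE2 * oE2)) = 1
  rw [m_oE2_oE2, m_oE2s_oE2s, r_oE2]

theorem xE12 : xE1 * xE2 = xE2 * xE1 := by
  refine extO ?_
  change oE1 * oE2 = oE2 * oE1
  rw [m_oE1_oE2, m_oE2_oE1]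

theorem xIE1 : xI * xE1 * xI⁻¹ = xE1 ^ 2 := by
  rw [mul_inv_eq_iff_eq_mul, pow_two]
  refine extO ?_
  change oI * oE1 = (oE1 * oE1) * oI
  rw [m_oE1_oE1, m_oI_oE1, m_oE1s_oI]

theorem xIE2 : xI * xE2 * xI⁻¹ = xE2 ^ 3 := by
  rw [mul_inv_eq_iff_eq_mul, show xE2 ^ 3 = (xE2 * xE2) * xE2 by simp only [pow_succ, pow_zero, one_mul, mul_assoc]]
  refine extO ?_
  change oI * oE2 = ((oE2 * oE2) * oE2) * oI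
  rw [m_oE2_oE2, m_oE2s_oE2, m_oI_oE2, m_oE2c_oI]

theorem xJE1 : xJ * xE1 * xJ⁻¹ = xE2 := by
  rw [mul_inv_eq_iff_eq_mul]
  refine extO ?_
  change oJ * oE1 = oE2 * oJ
  rw [m_oJ_oE1, m_oE2_oJ]

theorem xJE2 : xJ * xE2 * xJ⁻¹ = xE1 ^ 4 := by
  rw [mul_inv_eq_iff_eq_mul, show xE1 ^ 4 = (xE1 * xE1) * (xE1 * xE1) by simp only [pow_succ, pow_zero, one_mul, mul_assoc]]
  refine extO ?_
  change oJ * oE2 = ((oE1 * oE1) * (oE1 * oE1)) * oJ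
  rw [m_oE1_oE1, m_oE1s_oE1s, m_oJ_oE2, m_oE1i_oJ]

theorem ne0 : oE1 ≠ 1 := by decide +kernel
theorem ne1 : oE1 ≠ oE2 := by decide +kernel
theorem ne2 : oE1 ≠ oE2s := by decide +kernel
theorem ne3 : oE1 ≠ oE2c := by decide +kernel
theorem ne4 : oE1 ≠ oE2i := by decide +kernel

theorem xE_ne : ∀ c : Fin 5, xE1 ≠ xE2 ^ (c : ℕ) := by
  intro c hc
  fin_cases c
  · have h : oE1 = 1 := congrArg matO (hc.trans (pow_zero _))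
    exact ne0 h
  · have h : oE1 = oE2 := congrArg matO (hc.trans (pow_one _))
    exact ne1 h
  · have h : oE1 = oE2 * oE2 := congrArg matO (hc.trans (pow_two _))
    rw [m_oE2_oE2] at h
    exact ne2 h
  · have h : oE1 = (oE2 * oE2) * oE2 := congrArg matO (hc.trans
      (show xE2 ^ 3 = (xE2 * xE2) * xE2 by simp only [pow_succ, pow_zero, one_mul, mul_assoc]))
    rw [m_oE2_oE2, m_oE2s_oE2] at h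
    exact ne3 h
  · have h : oE1 = (oE2 * oE2) * (oE2 * oE2) := congrArg matO (hc.trans
      (show xE2 ^ 4 = (xE2 * xE2) * (xE2 * xE2) by simp only [pow_succ, pow_zero, one_mul, mul_assoc]))
    rw [m_oE2_oE2, m_oE2s_oE2s] at h
    exact ne4 h

variable {K : Type} [Field K] [Fintype K]

/-- **`PΩ⁺₈(2)`**: bound 8. -/
theorem bd_plus_four_two {F : Type u} [Field F] (h5 : ((5 : ℕ) : F) ≠ 0) (hK : Fintype.card K = 2) :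
    Bd F 5 8 (Cfsg.POmega K (Cfsg.quadFormPlus 4 K)) := by
  obtain ⟨σ⟩ : Nonempty (ZMod 2 ≃+* K) := by
    have : Fintype.card (ZMod 2) = Fintype.card K := by rw [hK]; rfl
    exact ⟨FiniteField.ringEquivOfCardEq this⟩
  have hσ : ∀ v : J8 → ZMod 2, Cfsg.quadFormPlus 4 K (fun i => σ (v i)) = σ (QJ v) := by
    intro v
    simp only [Cfsg.quadFormPlus, map_sum, map_mul]
  have hj := commHom_injective _ (isoMap_injective σ QJ (Cfsg.quadFormPlus 4 K) hσ)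
  refine bd_eight h5 ((QuotientGroup.mk' (Subgroup.center (Cfsg.Omega K (Cfsg.quadFormPlus 4 K)))).comp
    (commHom (isoMap σ QJ (Cfsg.quadFormPlus 4 K) hσ))) ?_ xE1_five xE2_five xE12 xIE1 xIE2 xJE1 xJE2 xE_ne
  intro x hx
  have h1 : commHom (isoMap σ QJ (Cfsg.quadFormPlus 4 K) hσ) x ∈ Subgroup.center _ :=
    (QuotientGroup.eq_one_iff _).1 hx
  rw [Subgroup.mem_center_iff] at h1 ⊢
  intro y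
  apply hj
  rw [map_mul, map_mul, h1]

/-- `PΩ⁺₈(2)` -/
theorem fine_plus_four_two (hK : Fintype.card K = 2) (hN : Cop.{0, w} 5 (Cfsg.POmega K (Cfsg.quadFormPlus 4 K))) :
    Cfsg.Agent.H223.Bnd.Bn.{0, w} (Cfsg.POmega K (Cfsg.quadFormPlus 4 K)) := by
  have : Finite (Cfsg.isometryGroup K (Cfsg.quadFormPlus 4 K)) := inferInstance
  have : Finite (Cfsg.POmega K (Cfsg.quadFormPlus 4 K)) := inferInstance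
  have hs : IsSimpleGroup (Cfsg.POmega K (Cfsg.quadFormPlus 4 K)) := Cfsg.Agent.S0296.result 4 le_rfl
  have hcard := Cfsg.Agent.S0293.result (F := K) hK 4 le_rfl
  norm_num [Finset.prod_range_succ] at hcard
  have : Fact (Nat.Prime 2) := ⟨Nat.prime_two⟩
  have haut := Cfsg.Agent.S0817.result (F := K) 2 1 le_rfl (by rw [hK, pow_one]) 4 le_rfl
  rw [if_pos rfl, if_pos rfl, hcard] at haut
  have h2T : 2 ∣ Nat.card (Cfsg.POmega K (Cfsg.quadFormPlus 4 K)) := by rw [hcard]; norm_num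
  have h5T : 5 ∣ Nat.card (Cfsg.POmega K (Cfsg.quadFormPlus 4 K)) := by rw [hcard]; norm_num
  refine Cfsg.Agent.H223.Bnd.Bn.of_lt7 (center_eq_bot (not_comm Nat.prime_two h2T (by rw [hcard]; norm_num))) (by rw [hcard]; norm_num)
    fun p m hp h11 hpT hm hR => ?_
  have hm8 : 8 ≤ m := rep_le hp Nat.prime_five h5T hpT hR hN fun F _ hF => bd_plus_four_two hF hK
  have h5 : p ^ 8 ≤ p ^ m := Nat.pow_le_pow_right hp.pos hm8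
  rw [haut]
  rcases (show p ≤ 13 ∨ 14 ≤ p by omega) with h13 | h14
  · have h6 : p - 13 = 0 := by omega
    rw [h6, zero_mul, zero_add]
    exact Nat.one_lt_pow (by omega) hp.one_lt
  rcases (show p = 17 ∨ p = 19 ∨ 20 ≤ p ∨ (p = 14 ∨ p = 15 ∨ p = 16 ∨ p = 18) by omega) with rfl | rfl | h20 | h
  · exact lt_of_lt_of_le (by norm_num) h5
  · exact lt_of_lt_of_le (by norm_num) h5
  · have h6 : 20 ^ 7 ≤ p ^ 7 := Nat.pow_le_pow_left h20 7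
    have h7 : 3 * 2 * 1 * 174182400 ≤ p ^ 7 := le_trans (by norm_num) h6
    calc _ ≤ (p - 13) * p ^ 7 + 1 := Nat.add_le_add_right (Nat.mul_le_mul_left _ h7) 1
      _ < p * p ^ 7 := by
        have h8 : 0 < p ^ 7 := Nat.pow_pos hp.pos
        obtain ⟨c, rfl⟩ : ∃ c, p = c + 20 := ⟨p - 20, by omega⟩
        have h9 : c + 20 - 13 = c + 7 := by omega
        rw [h9]
        nlinarith
      _ = p ^ 8 := by ring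
      _ ≤ _ := h5
  · rcases h with rfl | rfl | rfl | rfl <;> exact absurd hp (by norm_num)

end Cfsg.Agent.H223.Bnd.H315.FineOrth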