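import Cfsg.Agent.H223.Bnd.Orth
import Cfsg.Agent.H223.Bnd.O7
import Cfsg.Agent.H223.Bnd.O8
import Cfsg.Agent.H223.Bnd.O12
import Cfsg.Agent.H912.MultChar
import Cfsg.Agent.S2098
import Cfsg.Agent.H223.Bnd.Base

/-!
# `Fine` for the simple orthogonal groups
-/

set_option autoImplicit false

namespace Cfsg.Agent.H223.Bnd.H315.FineOrth
universe u v w

open Cfsg Cfsg.Agent.H698 Cfsg.Agent.H912.Bd Cfsg.Agent.H315.FineNum

section

variable {K : Type} [Field K] [Fintype K]

theorem fine_odd_all {m : ℕ} (hm : 3 ≤ m) (ho : Odd (Fintype.card K)) :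
    Cfsg.Agent.H223.Bnd.Bn.{0, w} (Cfsg.POmega K (Cfsg.quadFormOdd m K)) := by
  obtain ⟨p, f, hp, hf, hq, hpK⟩ := exists_pf (K := K)
  have hd : p ∣ Fintype.card K := by rw [hq]; exact dvd_pow_self p (by omega)
  by_cases h33 : m = 3 ∧ Fintype.card K = 3
  · obtain ⟨rfl, h3⟩ := h33
    refine fine_odd_three h3 ?_
    refine NoR.of_cyclic (S2086.result (F := K) h3 4 (by norm_num) (by norm_num) ?_) (by decide)
    rintro h
    simp only [Set.mem_insert_iff, Set.mem_singleton_iff, Prod.mk.injEq] at h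
    omega
  · refine fine_odd hp hpK hm ho h33 (NoR.of_cyclic (S2094.result (F := K) rfl ho m hm h33) ?_)
    rw [Nat.coprime_two_left]
    exact Odd.of_dvd_nat ho hd

theorem fine_plus_all {m : ℕ} (hm : 4 ≤ m) : Cfsg.Agent.H223.Bnd.Bn.{0, w} (Cfsg.POmega K (Cfsg.quadFormPlus m K)) := by
  obtain ⟨p, f, hp, hf, hq, hpK⟩ := exists_pf (K := K)
  have hd : p ∣ Fintype.card K := by rw [hq]; exact dvd_pow_self p (by omega)
  have hdm : p ∣ Fintype.card K ^ m := dvd_pow hd (by omega)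
  have hpos : 0 < Fintype.card K ^ m := pow_pos Fintype.card_pos _
  by_cases h42 : m = 4 ∧ Fintype.card K = 2
  · obtain ⟨rfl, h2⟩ := h42
    refine fine_plus_four_two h2 (NoR.of_mult (S2098.result (F := K) h2) ?_)
    rw [Nat.card_congr Multiplicative.toAdd, Nat.card_prod, Nat.card_zmod]
    decide
  · refine fine_plus hp hpK hm h42 ?_
    rcases Nat.even_or_odd m with hev | hod
    · refine NoR.of_mult (S2097.result (F := K) rfl m hm hev h42) ?_
      rw [Nat.card_congr Multiplicative.toAdd, Nat.card_prod, Nat.card_zmod]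
      have h1 : (Nat.gcd 2 (Fintype.card K ^ m - 1)).Coprime p := coprime_gcd_sub hp hpos hdm
      exact Nat.Coprime.mul_left h1 h1
    · have h5 : 5 ≤ m := by
        by_contra hcon
        have h4 : m = 4 := by omega
        rw [h4] at hod
        exact absurd hod (by decide)
      exact NoR.of_cyclic (S2096.result (F := K) rfl m h5 hod) (coprime_gcd_sub hp hpos hdm)

theorem fine_minus_all {m : ℕ} (hm : 4 ≤ m) (a b : K)
    (hab : ∀ z₁ z₂ : K, z₁ ^ 2 + a * z₁ * z₂ + b * z₂ ^ 2 = 0 → z₁ = 0 ∧ z₂ = 0) :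
    Cfsg.Agent.H223.Bnd.Bn.{0, w} (Cfsg.POmega K (Cfsg.quadFormMinus (m - 1) K a b)) := by
  obtain ⟨p, f, hp, hf, hq, hpK⟩ := exists_pf (K := K)
  have hd : p ∣ Fintype.card K := by rw [hq]; exact dvd_pow_self p (by omega)
  have hdm : p ∣ Fintype.card K ^ m := dvd_pow hd (by omega)
  have hN : NoR.{w} p (Cfsg.POmega K (Cfsg.quadFormMinus (m - 1) K a b)) :=
    NoR.of_cyclic (S2099.result (F := K) rfl m hm a b hab) (coprime_gcd_add hp hdm)
  by_cases h2 : Fintype.card K = 2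
  · obtain rfl : p = 2 := by
      have h4 : p ∣ 2 := by rw [← h2]; exact hd
      exact (Nat.prime_dvd_prime_iff_eq hp Nat.prime_two).1 h4
    by_cases h5 : m = 5
    · subst h5
      exact fine_minus_five h2 a b hab hN
    by_cases h6 : m = 6
    · subst h6
      exact fine_minus_six h2 a b hab hN
    exact fine_minus hp hpK hm a b hab (fun h => h5 h.1) (fun h => h6 h.1) hN
  · exact fine_minus hp hpK hm a b hab (fun h => h2 h.2) (fun h => h2 h.2) hN

end

/-- **The simple orthogonal groups are fine.** -/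
theorem fine_omega {T : Type u} [Group T] [Finite T]
    (h : Cfsg.IsPOmegaOdd T ∨ Cfsg.IsPOmegaPlus T ∨ Cfsg.IsPOmegaMinus T) : Cfsg.Agent.H223.Bnd.Bn.{u, u} T := by
  rcases h with ⟨K, _, _, m, hm, ho, ⟨e⟩⟩ | ⟨K, _, _, m, hm, ⟨e⟩⟩ | ⟨K, _, _, m, a, b, hm, hab, ⟨e⟩⟩
  · exact (fine_odd_all hm ho).congr e.symm
  · exact (fine_plus_all hm).congr e.symm
  · exact (fine_minus_all hm a b hab).congr e.symm

end Cfsg.Agent.H223.Bnd.H315.FineOrth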