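import Cfsg.Agent.H831.FineUnit
import Cfsg.Agent.H175.BdSp
import Cfsg.Agent.S0822
import Cfsg.Agent.H223.Bnd.Base

/-!
# `Fine` for `PSp_4(3)`, i.e. `PSU_4(2)` (helper831, task 766 for S4881)
-/

set_option autoImplicit false

namespace Cfsg.Agent.H223.Bnd.H831.FinePsp
universe u

open Cfsg.Agent.H698 Cfsg.Agent.H831.FineBase Cfsg.Agent.H831.FineUnit
open Cfsg.Agent.H674.SUBlock Cfsg.Agent.H674.Explicit Cfsg.Agent.H674.ExplicitCases Cfsg.Agent.H674.TwelvePSU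
open Cfsg.Agent.LieClassical Cfsg.Agent.H92

theorem card_psu42 {F : Type} [Field F] [Fintype F] (hF : Fintype.card F = 2 ^ 2) :
    Nat.card (Cfsg.PSU 4 F 2) = 25920 := by
  have h0 := Cfsg.Agent.S0280.result hF 4 (by norm_num)
  have h1 : 3 * Nat.card (Cfsg.PSU 4 F 2) = 3 * 25920 := by
    rw [show (Nat.gcd 4 (2 + 1) : ℕ) = 1 by norm_num] at h0
    have h2 : 1 * ((2 + 1) * Nat.card (Cfsg.PSU 4 F 2)) = 3 * Nat.card (Cfsg.PSU 4 F 2) := by ring
    rw [← h2, h0]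
    decide
  omega

theorem card_aut_psu42 {F : Type} [Field F] [Fintype F] (hF : Fintype.card F = 2 ^ 2) :
    Nat.card (MulAut (Cfsg.PSU 4 F 2)) = 51840 := by
  have : Fact (Nat.Prime 2) := ⟨Nat.prime_two⟩
  rw [Cfsg.Agent.S0815.result 2 1 le_rfl (q := 2) (by norm_num) hF 4 (by norm_num) (by norm_num), card_psu42 hF]
  norm_num

/-! ### elements -/

def M9 : Matrix (Fin 4) (Fin 4) F4 :=
  !![⟨0, 0⟩, ⟨0, 0⟩, ⟨0, 1⟩, ⟨0, 0⟩; ⟨1, 0⟩, ⟨0, 0⟩, ⟨0, 0⟩, ⟨0, 0⟩; ⟨0, 0⟩, ⟨1, 0⟩, ⟨0, 0⟩, ⟨0, 0⟩;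
     ⟨0, 0⟩, ⟨0, 0⟩, ⟨0, 0⟩, ⟨1, 1⟩]

def M12 : Matrix (Fin 4) (Fin 4) F4 :=
  !![⟨0, 1⟩, ⟨0, 1⟩, ⟨0, 1⟩, ⟨0, 0⟩; ⟨0, 1⟩, ⟨1, 1⟩, ⟨1, 0⟩, ⟨0, 0⟩; ⟨0, 1⟩, ⟨1, 0⟩, ⟨1, 1⟩, ⟨0, 0⟩;
     ⟨0, 0⟩, ⟨0, 0⟩, ⟨0, 0⟩, ⟨1, 0⟩]

theorem good_M : good 2 M9 = true ∧ good 2 M12 = true := by decide +kernel
theorem sc_M : isSc (M9 ^ 9) = true ∧ isSc (M12 ^ 12) = true := by decide +kernel
theorem nsc_M9 : ∀ k < 9, 0 < k → isSc (M9 ^ k) = false := by decide +kernel
theorem nsc_M12 : ∀ k < 12, 0 < k → isSc (M12 ^ k) = false := by decide +kernel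

theorem ord42 : ∀ n ∈ ({1, 2, 3, 4, 5, 6, 9, 12} : Finset ℕ), KTools.HasOrd (Cfsg.PSU 4 F4 2) n := by
  have h9' : KTools.HasOrd (Cfsg.PSU 4 F4 2) 9 := exists_ord h4 (by norm_num) good_M.1 (by norm_num) sc_M.1 nsc_M9
  have h12 : KTools.HasOrd (Cfsg.PSU 4 F4 2) 12 := exists_ord h4 (by norm_num) good_M.2 (by norm_num) sc_M.2 nsc_M12
  intro n hn
  simp only [Finset.mem_insert, Finset.mem_singleton] at hn
  rcases hn with rfl | rfl | rfl | rfl | rfl | rfl | rfl | rfl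
  · exact KTools.hasOrd_one _
  · exact h12.of_dvd (by norm_num) (by norm_num)
  · exact h12.of_dvd (by norm_num) (by norm_num)
  · exact h12.of_dvd (by norm_num) (by norm_num)
  · exact KTools.hasOrd_prime (by norm_num) (by rw [card_psu42 h4]; norm_num)
  · exact h12.of_dvd (by norm_num) (by norm_num)
  · exact h9'
  · exact h12

/-- the final inequality -/
theorem conclude {p m k z A c x : ℕ} (hp : p.Prime) (h11 : 11 ≤ p) (hk : k ≤ c) (hx : x ≤ A)
    (h1 : (p + 1 - 2 * k) * A + 1 < p ^ m) (hz : p ^ m ≤ 2 * z * x + 1) : p + 3 ≤ 2 * (z + c) := by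
  have hodd : p % 2 = 1 := by
    rcases hp.eq_two_or_odd with h3 | h3
    · omega
    · exact h3
  have h4 : (p + 1 - 2 * k) * x ≤ (p + 1 - 2 * k) * A := Nat.mul_le_mul_left _ hx
  have h5 : (p + 1 - 2 * k) * x < 2 * z * x := by omega
  have h6 : p + 1 - 2 * k < 2 * z := Nat.lt_of_mul_lt_mul_right h5
  omega

/-- **Two more classes outside.** -/
theorem add_two_le {T : Type u} [Group T] [Finite T] (hc : Subgroup.center T = ⊥) (L : Finset ℕ)
    (hL : ∀ n ∈ L, ∃ t : T, orderOf t = n) {X : Subgroup (MulAut T)}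
    (hX : (MulAut.conj : T →* MulAut T).range ≤ X) (h4 : 4 ∣ Nat.card X)
    (h2 : Nat.card X = 2 * Nat.card (MulAut.conj : T →* MulAut T).range) :
    L.card + 2 ≤ Nat.card (ConjClasses X) := by
  classical
  obtain ⟨s, hs, hin, h⟩ := exists_inner hc L hL hX
  let N : Subgroup X := ((MulAut.conj : T →* MulAut T).range).subgroupOf X
  have hNc : Nat.card N = Nat.card (MulAut.conj : T →* MulAut T).range :=
    Nat.card_congr (Subgroup.subgroupOfEquivOfLe hX).toEquiv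
  have hN : N.index = 2 := by
    have h3 := N.card_mul_index
    rw [hNc, h2, mul_comm] at h3
    exact Nat.eq_of_mul_eq_mul_right Nat.card_pos h3
  obtain ⟨a, b, ha, hb, hab⟩ := exists_outer h4 hN
  have hn : N.Normal := Subgroup.normal_of_index_eq_two hN
  have hmem : ∀ x ∈ s, x ∈ N := fun x hx => Subgroup.mem_subgroupOf.2 (hin x hx)
  have hnc : ∀ x ∈ N, ∀ y : X, y ∉ N → ¬ IsConj x y := by
    intro x hx y hy hxy
    obtain ⟨c, rfl⟩ := isConj_iff.1 hxy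
    exact hy (hn.conj_mem x hx c)
  have has : a ∉ s := fun h => ha (hmem a h)
  have hbs : b ∉ s := fun h => hb (hmem b h)
  have hne : a ≠ b := fun h => hab (h ▸ IsConj.refl a)
  have hcard : (insert a (insert b s)).card = L.card + 2 := by
    rw [Finset.card_insert_of_notMem, Finset.card_insert_of_notMem hbs, hs]
    rw [Finset.mem_insert, not_or]
    exact ⟨hne, has⟩
  rw [← hcard]
  refine card_le_classes _ ?_
  intro x hx y hy hxy
  rw [Finset.mem_insert, Finset.mem_insert] at hx hy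
  rcases hx with rfl | rfl | hx
  · rcases hy with rfl | rfl | hy
    · rfl
    · exact absurd hxy hab
    · exact absurd hxy.symm (hnc y (hmem y hy) _ ha)
  · rcases hy with rfl | rfl | hy
    · exact absurd hxy.symm hab
    · rfl
    · exact absurd hxy.symm (hnc y (hmem y hy) _ hb)
  · rcases hy with rfl | rfl | hy
    · exact absurd hxy (hnc x (hmem x hx) _ ha)
    · exact absurd hxy (hnc x (hmem x hx) _ hb)
    · exact h x hx y hy hxy

theorem main {T : Type u} [Group T] [Finite T] (e : T ≃* Cfsg.PSU 4 F4 2) : Cfsg.Agent.H223.Bnd.Bn.{u, u} T := by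
  have : Fact (Nat.Prime 2) := ⟨Nat.prime_two⟩
  have : Fact (Nat.Prime 3) := ⟨Nat.prime_three⟩
  have hchar : CharP F4 2 := charP_of_card_eq_prime_pow (f := 2) h4
  have hs' : IsSimpleGroup (Cfsg.PSU 4 F4 2) := Cfsg.Agent.S0283.result h4 4 (by norm_num) (by norm_num)
  have hs : IsSimpleGroup T := MulEquiv.isSimpleGroup e
  have hcard : Nat.card T = 25920 := by rw [Nat.card_congr e.toEquiv, card_psu42 h4]
  have haut : Nat.card (MulAut T) = 51840 := by
    rw [Nat.card_congr (autCongr e).toEquiv, card_aut_psu42 h4]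
  have hna : ¬ IsMulCommutative T := not_comm_of_card (by rw [hcard]; norm_num)
  have hc := center_eq_bot hna
  obtain ⟨ε⟩ := Cfsg.Agent.S0822.result (F := F4) (K := ZMod 3) (h4.trans (by norm_num)) (ZMod.card 3)
  have hL : ∀ n ∈ ({1, 2, 3, 4, 5, 6, 9, 12} : Finset ℕ), ∃ t : T, orderOf t = n := by
    intro n hn
    obtain ⟨g, hg⟩ := ord42 n hn
    exact ⟨e.symm g, by rw [MulEquiv.orderOf_eq, hg]⟩
  intro p m hp h23 hpT hm hR
  -- the dimension
  have hm4 : 4 ≤ m := by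
    obtain ⟨K, _, _, d, hd2, hdm, hPR⟩ := Cfsg.Agent.H831.FineScalar.exists_scalar hna hR
    refine le_trans ?_ hdm
    have hcast : ∀ r : ℕ, r.Prime → r ∣ Nat.card T → (r : K) ≠ 0 := by
      intro r hr hrT
      rw [Ne, CharP.cast_eq_zero_iff K p, Nat.prime_dvd_prime_iff_eq hp hr]
      rintro rfl
      exact hpT hrT
    by_cases h3 : 3 ∣ d
    · by_contra hlt
      have hd : d = 3 := by omega
      have h5 := Cfsg.Agent.H175.BdSU.bd_psu (F := K) Nat.prime_two h4 (by norm_num)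
        (hcast 2 Nat.prime_two (by rw [hcard]; norm_num)) e d (hPR 2 Nat.prime_two (by rw [hd]; norm_num))
      norm_num at h5
      omega
    · have h5 := Cfsg.Agent.H175.BdSp.bd_psp (F := K) (K := ZMod 3) (q := 3) (m := 2) Nat.prime_three (ZMod.card 3)
        (by norm_num) (hcast 3 Nat.prime_three (by rw [hcard]; norm_num)) (e.trans ε) d (hPR 3 Nat.prime_three h3)
      norm_num at h5
      omega
  rw [haut]
  have h6 : 23 ^ 3 ≤ p ^ 3 := Nat.pow_le_pow_left h23 3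
  have h7 : p ^ 3 ≤ p ^ (m - 1) := Nat.pow_le_pow_right (by omega) (by omega)
  omega

theorem fine_psu42 {T : Type u} [Group T] [Finite T] {F : Type} [Field F] [Fintype F] (hF : Fintype.card F = 2 ^ 2)
    (e : T ≃* Cfsg.PSU 4 F 2) : Cfsg.Agent.H223.Bnd.Bn.{u, u} T :=
  main (e.trans (FieldTransfer.psuCongr 4 2 (FiniteField.ringEquivOfCardEq (hF.trans h4.symm))))

theorem fine_psp43 {T : Type u} [Group T] [Finite T] {F : Type} [Field F] [Fintype F] (hF : Fintype.card F = 3)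
    (e : T ≃* Cfsg.PSp 2 F) : Cfsg.Agent.H223.Bnd.Bn.{u, u} T := by
  obtain ⟨ε⟩ := Cfsg.Agent.S0822.result (F := F4) (K := F) (h4.trans (by norm_num)) hF
  exact main (e.trans ε.symm)

end Cfsg.Agent.H223.Bnd.H831.FinePsp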