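import Cfsg.Agent.H831.FineUnit
import Cfsg.Agent.H223.Bnd.Base
import Cfsg.Agent.H223.Bnd.Low

/-!
# `Fine` for `PSU_4(3)` and `PSU_6(2)` (helper831, task 764 for S4881)
-/

set_option autoImplicit false

namespace Cfsg.Agent.H223.Bnd.H831.FineUSix
universe u

open Cfsg.Agent.H698 Cfsg.Agent.H831.FineBase Cfsg.Agent.H831.FineUnit
open Cfsg.Agent.H674.SUBlock Cfsg.Agent.H674.Explicit Cfsg.Agent.H674.ExplicitCases Cfsg.Agent.H674.TwelvePSU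
open Cfsg.Agent.LieClassical Cfsg.Agent.H92

section

variable {F : Type} [Field F] [Fintype F]

theorem card_psu62 (hF : Fintype.card F = 2 ^ 2) : Nat.card (Cfsg.PSU 6 F 2) = 9196830720 := by
  have h0 := Cfsg.Agent.S0280.result hF 6 (by norm_num)
  have h1 : 9 * Nat.card (Cfsg.PSU 6 F 2) = 9 * 9196830720 := by
    rw [show (Nat.gcd 6 (2 + 1) : ℕ) = 3 by norm_num] at h0
    have h2 : 3 * ((2 + 1) * Nat.card (Cfsg.PSU 6 F 2)) = 9 * Nat.card (Cfsg.PSU 6 F 2) := by ring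
    rw [← h2, h0]
    decide
  omega

theorem card_psu52 (hF : Fintype.card F = 2 ^ 2) : Nat.card (Cfsg.PSU 5 F 2) = 13685760 := by
  have h0 := Cfsg.Agent.S0280.result hF 5 (by norm_num)
  have h1 : 3 * Nat.card (Cfsg.PSU 5 F 2) = 3 * 13685760 := by
    rw [show (Nat.gcd 5 (2 + 1) : ℕ) = 1 by norm_num] at h0
    have h2 : 1 * ((2 + 1) * Nat.card (Cfsg.PSU 5 F 2)) = 3 * Nat.card (Cfsg.PSU 5 F 2) := by ring
    rw [← h2, h0]
    decide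
  omega

theorem card_psu43 (hF : Fintype.card F = 3 ^ 2) : Nat.card (Cfsg.PSU 4 F 3) = 3265920 := by
  have h0 := Cfsg.Agent.S0280.result hF 4 (by norm_num)
  have h1 : 16 * Nat.card (Cfsg.PSU 4 F 3) = 16 * 3265920 := by
    rw [show (Nat.gcd 4 (3 + 1) : ℕ) = 4 by norm_num] at h0
    have h2 : 4 * ((3 + 1) * Nat.card (Cfsg.PSU 4 F 3)) = 16 * Nat.card (Cfsg.PSU 4 F 3) := by ring
    rw [← h2, h0]
    decide
  omega

theorem card_psu33 (hF : Fintype.card F = 3 ^ 2) : Nat.card (Cfsg.PSU 3 F 3) = 6048 := by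
  have h0 := Cfsg.Agent.S0280.result hF 3 (by norm_num)
  have h1 : 4 * Nat.card (Cfsg.PSU 3 F 3) = 4 * 6048 := by
    rw [show (Nat.gcd 3 (3 + 1) : ℕ) = 1 by norm_num] at h0
    have h2 : 1 * ((3 + 1) * Nat.card (Cfsg.PSU 3 F 3)) = 4 * Nat.card (Cfsg.PSU 3 F 3) := by ring
    rw [← h2, h0]
    decide
  omega

theorem card_aut_psu62 (hF : Fintype.card F = 2 ^ 2) : Nat.card (MulAut (Cfsg.PSU 6 F 2)) = 55180984320 := by
  have : Fact (Nat.Prime 2) := ⟨Nat.prime_two⟩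
  rw [Cfsg.Agent.S0815.result 2 1 le_rfl (q := 2) (by norm_num) hF 6 (by norm_num) (by norm_num), card_psu62 hF]
  norm_num

theorem card_aut_psu43 (hF : Fintype.card F = 3 ^ 2) : Nat.card (MulAut (Cfsg.PSU 4 F 3)) = 26127360 := by
  have : Fact (Nat.Prime 3) := ⟨Nat.prime_three⟩
  rw [Cfsg.Agent.S0815.result 3 1 le_rfl (q := 3) (by norm_num) hF 4 (by norm_num) (by norm_num), card_psu43 hF]
  norm_num

end

/-- the dimension of a projective representation of `PSU_6(2)` is at least `10` (restrict to `SU_5(2)`) -/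
theorem ten_le {T : Type u} [Group T] [Finite T] {F : Type} [Field F] [Fintype F] [CharP F 2]
    (hF : Fintype.card F = 2 ^ 2) (e : T ≃* Cfsg.PSU (5 + 1) F 2) {p m : ℕ} (hp : p.Prime)
    (hpT : ¬ p ∣ Nat.card T) (h : Rep.{u, u} p m T) : 10 ≤ m := by
  have : Fact (Nat.Prime 2) := ⟨Nat.prime_two⟩
  obtain ⟨ε⟩ := nonempty_su_psu (n := 5) hF (by norm_num) (by norm_num)
  let f : Cfsg.SU 5 F 2 →* T := e.symm.toMonoidHom.comp ((pr : Cfsg.SU (5 + 1) F 2 →* _).comp (ext hF 1))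
  have hf : Function.Injective f := e.symm.injective.comp (pr_ext_injective hF (by norm_num) (by norm_num))
  let E : f.range ≃* Cfsg.PSU 5 F 2 := (MonoidHom.ofInjective hf).symm.trans ε
  have hs : IsSimpleGroup (Cfsg.PSU 5 F 2) := Cfsg.Agent.S0283.result hF 5 (by norm_num) (by norm_num)
  have hs' : IsSimpleGroup f.range := MulEquiv.isSimpleGroup E
  have hM : Cfsg.HasSchurMultiplier f.range (Multiplicative (ZMod (Nat.gcd 5 (2 + 1)))) :=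
    Cfsg.Agent.H487.HasSchurMultiplier.congr_left
      (Cfsg.Agent.S2089.result 5 2 hF (by norm_num) (by norm_num) (by simp)) E.symm
  have hcard : Nat.card f.range = 13685760 := by rw [Nat.card_congr E.toEquiv, card_psu52 hF]
  have hna : ¬ IsMulCommutative f.range := not_comm_of_card (by rw [hcard]; norm_num)
  have h1 := h.sub hna f.range.subtype (Subgroup.subtype_injective _)
  refine Rep.le_of_Bd (r := 2) hp Nat.prime_two (by rw [hcard]; norm_num) ?_ h1 hM ?_ ?_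
  · intro h2
    exact hpT (h2.trans (Subgroup.card_subgroup_dvd_card _))
  · have : Nat.card (Multiplicative (ZMod (Nat.gcd 5 (2 + 1)))) = 1 := by
      rw [Nat.card_congr Multiplicative.toAdd, Nat.card_zmod]
      norm_num
    rw [this]
    exact Nat.coprime_one_left 2
  · intro K _ hrK
    exact (Cfsg.Agent.H223.Bnd.Low.bd_su52 hrK).congr
      ((MonoidHom.ofInjective hf).symm.trans
        (FieldTransfer.suCongr 5 2 (FiniteField.ringEquivOfCardEq (hF.trans h4.symm))))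

theorem fine_u62 {T : Type u} [Group T] [Finite T] {F : Type} [Field F] [Fintype F] (hF : Fintype.card F = 2 ^ 2)
    (e : T ≃* Cfsg.PSU 6 F 2) : Cfsg.Agent.H223.Bnd.Bn.{u, u} T := by
  have : Fact (Nat.Prime 2) := ⟨Nat.prime_two⟩
  have hchar : CharP F 2 := charP_of_card_eq_prime_pow (f := 2) hF
  have haut : Nat.card (MulAut T) = 55180984320 := by
    rw [Nat.card_congr (autCongr e).toEquiv, card_aut_psu62 hF]
  exact Cfsg.Agent.H223.Bnd.Bn.of_twentythree (d := 9)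
    (fun p m hp _ hpT _ hR => ten_le hF e hp hpT hR) (by rw [haut]; norm_num)

/-! ### `PSU_4(3)` -/

def M4 : Matrix (Fin 4) (Fin 4) F9 := !![⟨0, 0⟩, ⟨0, 0⟩, ⟨1, 0⟩, ⟨0, 0⟩; ⟨0, 0⟩, ⟨0, 0⟩, ⟨0, 0⟩, ⟨2, 0⟩; ⟨0, 0⟩, ⟨2, 0⟩, ⟨0, 0⟩, ⟨0, 0⟩; ⟨2, 0⟩, ⟨0, 0⟩, ⟨0, 0⟩, ⟨0, 0⟩]
def M6 : Matrix (Fin 4) (Fin 4) F9 := !![⟨0, 0⟩, ⟨0, 2⟩, ⟨0, 0⟩, ⟨0, 0⟩; ⟨2, 1⟩, ⟨0, 0⟩, ⟨2, 2⟩, ⟨0, 0⟩; ⟨0, 0⟩, ⟨0, 0⟩, ⟨0, 0⟩, ⟨0, 2⟩; ⟨2, 1⟩, ⟨0, 0⟩, ⟨1, 1⟩, ⟨0, 0⟩]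
def M8 : Matrix (Fin 4) (Fin 4) F9 := !![⟨1, 1⟩, ⟨0, 0⟩, ⟨2, 1⟩, ⟨0, 0⟩; ⟨0, 0⟩, ⟨0, 0⟩, ⟨0, 0⟩, ⟨2, 0⟩; ⟨0, 0⟩, ⟨2, 0⟩, ⟨0, 0⟩, ⟨0, 0⟩; ⟨1, 1⟩, ⟨0, 0⟩, ⟨1, 2⟩, ⟨0, 0⟩]
def M9 : Matrix (Fin 4) (Fin 4) F9 := !![⟨0, 0⟩, ⟨2, 2⟩, ⟨0, 2⟩, ⟨1, 0⟩; ⟨0, 0⟩, ⟨0, 0⟩, ⟨2, 2⟩, ⟨2, 1⟩; ⟨0, 0⟩, ⟨2, 2⟩, ⟨0, 1⟩, ⟨2, 0⟩; ⟨0, 1⟩, ⟨0, 0⟩, ⟨0, 0⟩, ⟨0, 0⟩]
def M12 : Matrix (Fin 4) (Fin 4) F9 := !![⟨0, 0⟩, ⟨0, 0⟩, ⟨2, 0⟩, ⟨0, 0⟩; ⟨2, 2⟩, ⟨2, 2⟩, ⟨0, 0⟩, ⟨0, 0⟩; ⟨1, 1⟩, ⟨2, 2⟩, ⟨0, 0⟩, ⟨0, 0⟩; ⟨0, 0⟩, ⟨0, 0⟩, ⟨0, 0⟩, ⟨0, 1⟩]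

theorem good_M : good 3 M8 = true ∧ good 3 M9 = true ∧ good 3 M12 = true := by decide +kernel
theorem sc_M : isSc (M8 ^ 8) = true ∧ isSc (M9 ^ 9) = true ∧ isSc (M12 ^ 12) = true := by decide +kernel
theorem nsc_M8 : ∀ k < 8, 0 < k → isSc (M8 ^ k) = false := by decide +kernel
theorem nsc_M9 : ∀ k < 9, 0 < k → isSc (M9 ^ k) = false := by decide +kernel
theorem nsc_M12 : ∀ k < 12, 0 < k → isSc (M12 ^ k) = false := by decide +kernel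

theorem ord43 : ∀ n ∈ ({1, 2, 3, 4, 5, 6, 7, 8, 9, 12} : Finset ℕ), KTools.HasOrd (Cfsg.PSU 4 F9 3) n := by
  have h8 : KTools.HasOrd (Cfsg.PSU 4 F9 3) 8 := exists_ord h9 (by norm_num) good_M.1 (by norm_num) sc_M.1 nsc_M8
  have h9' : KTools.HasOrd (Cfsg.PSU 4 F9 3) 9 :=
    exists_ord h9 (by norm_num) good_M.2.1 (by norm_num) sc_M.2.1 nsc_M9
  have h12 : KTools.HasOrd (Cfsg.PSU 4 F9 3) 12 :=
    exists_ord h9 (by norm_num) good_M.2.2 (by norm_num) sc_M.2.2 nsc_M12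
  intro n hn
  simp only [Finset.mem_insert, Finset.mem_singleton] at hn
  rcases hn with rfl | rfl | rfl | rfl | rfl | rfl | rfl | rfl | rfl | rfl
  · exact KTools.hasOrd_one _
  · exact h8.of_dvd (by norm_num) (by norm_num)
  · exact h12.of_dvd (by norm_num) (by norm_num)
  · exact h8.of_dvd (by norm_num) (by norm_num)
  · exact KTools.hasOrd_prime (by norm_num) (by rw [card_psu43 h9]; norm_num)
  · exact h12.of_dvd (by norm_num) (by norm_num)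
  · exact KTools.hasOrd_prime (by norm_num) (by rw [card_psu43 h9]; norm_num)
  · exact h8
  · exact h9'
  · exact h12

theorem fine_u43 {T : Type u} [Group T] [Finite T] {F : Type} [Field F] [Fintype F] (hF : Fintype.card F = 3 ^ 2)
    (e : T ≃* Cfsg.PSU 4 F 3) : Cfsg.Agent.H223.Bnd.Bn.{u, u} T := by
  have : Fact (Nat.Prime 3) := ⟨Nat.prime_three⟩
  have hchar : CharP F 3 := charP_of_card_eq_prime_pow (f := 2) hF
  have hs' : IsSimpleGroup (Cfsg.PSU 4 F 3) := Cfsg.Agent.S0283.result hF 4 (by norm_num) (by norm_num)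
  have hs : IsSimpleGroup T := MulEquiv.isSimpleGroup e
  have hcard : Nat.card T = 3265920 := by rw [Nat.card_congr e.toEquiv, card_psu43 hF]
  have haut : Nat.card (MulAut T) = 26127360 := by
    rw [Nat.card_congr (autCongr e).toEquiv, card_aut_psu43 hF]
  have hna : ¬ IsMulCommutative T := not_comm_of_card (by rw [hcard]; norm_num)
  have hc := center_eq_bot hna
  let ψ : Cfsg.PSU 4 F9 3 ≃* T :=
    (FieldTransfer.psuCongr 4 3 (FiniteField.ringEquivOfCardEq (h9.trans hF.symm))).trans e.symm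
  refine Cfsg.Agent.H223.Bnd.Bn.of_classes (k := 10) (fun X hX => ?_) fun p m hp h11 hpT hm hR => ?_
  · refine le_trans (by decide) (orders_le hc {1, 2, 3, 4, 5, 6, 7, 8, 9, 12} (fun n hn => ?_) hX)
    obtain ⟨g, hg⟩ := ord43 n hn
    exact ⟨ψ g, by rw [MulEquiv.orderOf_eq, hg]⟩
  · rw [haut]
    have h1 := le_of_sub (n := 3) (k := 1) (r := 3) Nat.prime_three hF (by norm_num) (by norm_num) (by norm_num)
      (by norm_num) (by simp) (by rw [card_psu33 hF]; norm_num) (by rw [card_psu33 hF]; norm_num) e hp hpT hR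
    exact numeric (B := 31) (d := 5) (by norm_num) (by omega) (by norm_num) (by decide) h11

end Cfsg.Agent.H223.Bnd.H831.FineUSix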