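import Cfsg.Prelude.Def_Classification2
import Cfsg.Agent.H223.Bnd.Alt
import Cfsg.Agent.H223.Bnd.PslTwo
import Cfsg.Agent.H223.Bnd.Psl
import Cfsg.Agent.H223.Bnd.Lin
import Cfsg.Agent.H223.Bnd.Psu
import Cfsg.Agent.H223.Bnd.USix
import Cfsg.Agent.H223.Bnd.Psp
import Cfsg.Agent.H223.Bnd.PspB
import Cfsg.Agent.H223.Bnd.Omega
import Cfsg.Agent.H223.Bnd.Exc1
import Cfsg.Agent.H223.Bnd.Exc2
import Cfsg.Agent.H223.Bnd.SporA
import Cfsg.Agent.H223.Bnd.SporB2
import Cfsg.Agent.S0254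
import Cfsg.Agent.S0256
import Cfsg.Agent.H223.Bnd.Base

/-!
# The condition `Fine` for all known simple groups (assembly)
-/

set_option autoImplicit false

namespace Cfsg.Agent.H223.Bnd.H698.FineAll
open Cfsg

universe u

/-- The rows which are stated separately. -/
structure Rest : Prop where
  exc2 : ∀ {T : Type u} [Group T] [Finite T], Lie.IsoF4 T ∨ Lie.IsoChevE6 T ∨ Lie.IsoE7 T ∨ Lie.IsoE8 T ∨ Lie.Iso2E6 T →
    Cfsg.Agent.H223.Bnd.Bn.{u, u} T
  spor1 : ∀ {T : Type u} [Group T] [Finite T], Spor.IsoM11 T ∨ Spor.IsoM12 T ∨ Spor.IsoM22 T ∨ Spor.IsoM23 T ∨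
    Spor.IsoM24 T ∨ Spor.IsoJ1 T ∨ Spor.IsoJ3 T ∨ Spor.IsoJ4 T ∨ Spor.IsoCo2 T ∨ Spor.IsoCo3 T ∨ Spor.IsoHe T ∨
    Spor.IsoRu T ∨ Spor.IsoON T ∨ Spor.IsoLy T ∨ Spor.IsoTh T ∨ Spor.IsoB T ∨ Spor.IsoM T → Cfsg.Agent.H223.Bnd.Bn.{u, u} T
  spor2 : ∀ {T : Type u} [Group T] [Finite T], Spor.IsoJ2 T ∨ Spor.IsoHS T ∨ Spor.IsoMcL T ∨ Spor.IsoCo1 T ∨
    Spor.IsoSuz T ∨ Spor.IsoFi22 T ∨ Spor.IsoFi23 T ∨ Spor.IsoFi24' T ∨ Spor.IsoHN T → Cfsg.Agent.H223.Bnd.Bn.{u, u} T

theorem fine_of_known (R : Rest.{u}) {T : Type u} [Group T] [Finite T] (hna : ¬ IsMulCommutative T)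
    (h : IsKnownSimple' T) : Cfsg.Agent.H223.Bnd.Bn.{u, u} T := by
  rcases h with h | h | h | h | h | h | h | h | h | h
  · exfalso
    apply hna
    have : Fact (Nat.card T).Prime := ⟨h⟩
    have hc : IsCyclic T := isCyclic_of_prime_card rfl
    exact ⟨⟨fun a b => (IsCyclic.commGroup (α := T)).mul_comm a b⟩⟩
  · exact H656.FineAlt.fine_alt h
  · obtain ⟨F, _, _, n, hn, hn2, ⟨e⟩⟩ := h
    rcases Nat.lt_or_ge n 3 with h3 | h3
    · have h2 : n = 2 := by omega
      subst h2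
      by_cases h9 : Fintype.card F = 9
      · obtain ⟨g⟩ := S0254.result h9
        exact H656.FineAlt.fine_alt ⟨6, by norm_num, ⟨e.trans g⟩⟩
      · exact H680.fine_psl2 (hn2 rfl) h9 e
    · by_cases h34 : n = 3 ∧ Fintype.card F = 4
      · obtain ⟨rfl, hF⟩ := h34
        exact H831.FineLin.fine_l34 hF e
      · by_cases h42 : n = 4 ∧ Fintype.card F = 2
        · obtain ⟨rfl, hF⟩ := h42
          obtain ⟨g⟩ := S0256.result hF
          exact H656.FineAlt.fine_alt ⟨8, by norm_num, ⟨e.trans g⟩⟩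
        · exact H454.FinePsl.fine_psl h3 h34 h42 e
  · obtain ⟨F, _, _, m, hm, hm2, ⟨e⟩⟩ := h
    by_cases h23 : m = 2 ∧ Fintype.card F = 3
    · obtain ⟨rfl, hF⟩ := h23
      exact H831.FinePsp.fine_psp43 hF e
    · refine H454.FinePsp.fine_psp hm (fun h2 => ?_) e
      have := hm2 h2
      have h4 : Fintype.card F ≠ 3 := fun h => h23 ⟨h2, h⟩
      omega
  · obtain ⟨F, _, _, n, q, hF, hn, h32, ⟨e⟩⟩ := h
    by_cases h42 : n = 4 ∧ q = 2
    · obtain ⟨rfl, rfl⟩ := h42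
      exact H831.FinePsp.fine_psu42 hF e
    · by_cases h43 : n = 4 ∧ q = 3
      · obtain ⟨rfl, rfl⟩ := h43
        exact H831.FineUSix.fine_u43 hF e
      · by_cases h62 : n = 6 ∧ q = 2
        · obtain ⟨rfl, rfl⟩ := h62
          exact H831.FineUSix.fine_u62 hF e
        · exact H454.FinePsu.fine_psu hF hn h32 h42 h43 h62 e
  · exact H315.FineOrth.fine_omega (Or.inl h)
  · exact H315.FineOrth.fine_omega (Or.inr (Or.inl h))
  · exact H315.FineOrth.fine_omega (Or.inr (Or.inr h))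
  · rcases h with h | h | h | h | h | h | h | h | h | h | h
    · exact H762.FineExc.fine_exc1 (Or.inl h)
    · exact R.exc2 (Or.inl h)
    · exact R.exc2 (Or.inr (Or.inl h))
    · exact R.exc2 (Or.inr (Or.inr (Or.inl h)))
    · exact R.exc2 (Or.inr (Or.inr (Or.inr (Or.inl h))))
    · exact R.exc2 (Or.inr (Or.inr (Or.inr (Or.inr h))))
    · exact H762.FineExc.fine_exc1 (Or.inr (Or.inl h))
    · exact H762.FineExc.fine_exc1 (Or.inr (Or.inr (Or.inl h)))
    · exact H762.FineExc.fine_exc1 (Or.inr (Or.inr (Or.inr (Or.inl h))))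
    · exact H762.FineExc.fine_exc1 (Or.inr (Or.inr (Or.inr (Or.inr (Or.inl h)))))
    · exact H762.FineExc.fine_exc1 (Or.inr (Or.inr (Or.inr (Or.inr (Or.inr h)))))
  · have h1 := R.spor1 (T := T)
    have h2 := R.spor2 (T := T)
    rcases h with h | h | h | h | h | h | h | h | h | h | h | h | h | h | h | h | h | h | h | h | h | h | h | h | h | h
    · exact h1 (by tauto)
    · exact h1 (by tauto)
    · exact h1 (by tauto)
    · exact h1 (by tauto)
    · exact h1 (by tauto)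
    · exact h1 (by tauto)
    · exact h2 (by tauto)
    · exact h1 (by tauto)
    · exact h1 (by tauto)
    · exact h2 (by tauto)
    · exact h1 (by tauto)
    · exact h1 (by tauto)
    · exact h2 (by tauto)
    · exact h2 (by tauto)
    · exact h2 (by tauto)
    · exact h1 (by tauto)
    · exact h1 (by tauto)
    · exact h1 (by tauto)
    · exact h1 (by tauto)
    · exact h2 (by tauto)
    · exact h2 (by tauto)
    · exact h2 (by tauto)
    · exact h2 (by tauto)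
    · exact h1 (by tauto)
    · exact h1 (by tauto)
    · exact h1 (by tauto)

theorem rest : Rest.{u} where
  exc2 h := H656.FineExc2.fine_exc2 h
  spor1 h := H123.FineSpor.fine_spor1 h
  spor2 h := H128.FineSpor.fine_spor2 h

end Cfsg.Agent.H223.Bnd.H698.FineAll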