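import Cfsg.Agent.H698.FinePR
import Cfsg.Agent.H487.SchurMult
import Mathlib
import Cfsg.Agent.H223.Bnd.Base

/-!
# Auxiliary facts for the condition `Fine` (helper454, S4881)

* `fine_of_nonab` : one may assume that `T` is not commutative;
* `fine_of_bd` : the criterion used for the classical groups;
* numerical inequalities.
-/

set_option autoImplicit false

namespace Cfsg.Agent.H223.Bnd.H454.FineAux
universe u v w

open Cfsg.Agent.H698 Cfsg.Agent.H912.Bd

theorem perfect_of_rep {p m : ℕ} {T : Type u} [Group T] (h : Rep.{u, w} p m T) : commutator T = ⊤ := by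
  obtain ⟨F, _, _, _, P, _, _, π, ρ, h1, h2, h3, h4, h5⟩ := h
  have h6 : (commutator P).map π = commutator T := by
    rw [commutator_def, commutator_def, Subgroup.map_commutator, ← MonoidHom.range_eq_map, MonoidHom.range_eq_top.2 h1]
  rw [← h6, h3, ← MonoidHom.range_eq_map, MonoidHom.range_eq_top.2 h1]

theorem fine_of_nonab {T : Type u} [Group T] [Finite T] [IsSimpleGroup T] (h : ¬ IsMulCommutative T → Cfsg.Agent.H223.Bnd.Bn.{u, w} T) :
    Cfsg.Agent.H223.Bnd.Bn.{u, w} T := by
  intro p m hp h11 hpT hm hR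
  refine h ?_ p m hp h11 hpT hm hR
  intro hc
  have h1 := perfect_of_rep hR
  have h2 : commutator T = ⊥ := by
    rw [commutator_def, Subgroup.commutator_eq_bot_iff_le_centralizer]
    intro x _
    rw [Subgroup.mem_centralizer_iff]
    intro y _
    exact hc.1.1 y x
  rw [h1] at h2
  exact absurd h2 top_ne_bot

theorem center_eq_bot {T : Type u} [Group T] [IsSimpleGroup T] (hT : ¬ IsMulCommutative T) :
    Subgroup.center T = ⊥ := by
  rcases (inferInstance : (Subgroup.center T).Normal).eq_bot_or_eq_top with h | h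
  · exact h
  · exfalso
    apply hT
    refine ⟨⟨fun a b => ?_⟩⟩
    have h1 : b ∈ Subgroup.center T := by rw [h]; trivial
    exact Subgroup.mem_center_iff.1 h1 a

theorem card_mulAut_congr {G : Type u} {H : Type v} [Group G] [Group H] (e : G ≃* H) :
    Nat.card (MulAut G) = Nat.card (MulAut H) := Nat.card_congr (MulAut.congr e).toEquiv

/-- The criterion for the classical groups. -/
theorem fine_of_bd {T : Type u} [Group T] [Finite T] [IsSimpleGroup T] {r d a : ℕ} (hr : r.Prime) (hrT : r ∣ Nat.card T)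
    (hM : Cfsg.HasCyclicSchurMultiplier T a) (ha : a.Coprime r)
    (hB : ∀ (F : Type u) [Field F], (r : F) ≠ 0 → Bd F r (d + 1) T) (h : Nat.card (MulAut T) ≤ 11 ^ d) :
    Cfsg.Agent.H223.Bnd.Bn.{u, u} T := by
  refine fine_of_nonab fun hna => ?_
  refine Cfsg.Agent.H223.Bnd.Bn.of_eleven (center_eq_bot hna) (Finite.one_lt_card_iff_nontrivial.2 inferInstance) (d := d) ?_ h
  intro p m hp _ hpT _ hR
  refine hR.le_of_Bd hp hr hrT hpT hM ?_ hB
  have : Nat.card (Multiplicative (ZMod a)) = a := by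
    rw [Nat.card_congr Multiplicative.toAdd, Nat.card_zmod]
  rw [this]
  exact ha

/-! ### numbers -/

theorem le_two_pow_pred {q : ℕ} (hq : 1 ≤ q) : q ≤ 2 ^ (q - 1) := by
  have := Nat.lt_two_pow_self (n := q - 1)
  omega

theorem two_mul_le_two_pow (f : ℕ) (hf : 1 ≤ f) : 2 * f ≤ 2 ^ f := by
  induction f, hf using Nat.le_induction with
  | base => norm_num
  | succ n hn ih =>
    rw [pow_succ]
    omega

theorem two_f_le {p f : ℕ} (hp : 2 ≤ p) (hf : 1 ≤ f) : 2 * f ≤ p ^ f :=
  (two_mul_le_two_pow f hf).trans (Nat.pow_le_pow_left hp f)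

/-- `q ^ a ≤ 11 ^ b` if `(q - 1) a ≤ 3 b` -/
theorem pow_le_eleven {q a b : ℕ} (hq : 1 ≤ q) (h : (q - 1) * a ≤ 3 * b) : q ^ a ≤ 11 ^ b := by
  calc q ^ a ≤ (2 ^ (q - 1)) ^ a := Nat.pow_le_pow_left (le_two_pow_pred hq) a
    _ = 2 ^ ((q - 1) * a) := by rw [← pow_mul]
    _ ≤ 2 ^ (3 * b) := Nat.pow_le_pow_right (by norm_num) h
    _ = 8 ^ b := by rw [pow_mul]; norm_num
    _ ≤ 11 ^ b := Nat.pow_le_pow_left (by norm_num) b

end Cfsg.Agent.H223.Bnd.H454.FineAux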