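import Cfsg.Agent.H223.Bnd.Exc1T
import Cfsg.Agent.H203.LSG2
import Cfsg.Agent.H203.LSTwD4
import Cfsg.Agent.H203.LSTwF4
import Cfsg.Agent.H203.LSSz
import Cfsg.Agent.S2121
import Cfsg.Agent.S2126
import Cfsg.Agent.S2127
import Cfsg.Agent.S2128
import Cfsg.Agent.S2129
import Cfsg.Agent.S1059
import Cfsg.Agent.S1067
import Cfsg.Agent.S1163
import Cfsg.Agent.S1068
import Cfsg.Agent.S1069
import Cfsg.Agent.H223.Bnd.Base

/-!
helper762 (market task 768, for S4881): `Fine` for `G₂(q)`, `q ≥ 5`, `³D₄(q)`, `Sz(q)`, `²G₂(q)`, `²F₄(q)`.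
-/

set_option autoImplicit false

namespace Cfsg.Agent.H223.Bnd.H762.FineExc
open Cfsg Cfsg.Agent.H698 Cfsg.Agent.H92.KTools Cfsg.Agent.H223.Bnd.H762.FineTools

universe u v w

theorem two_pow (n : ℕ) (a b : ℕ) (h : a * n ≤ 3 * b) : n ^ a ≤ 11 ^ b := by
  have h1 : n ≤ 2 ^ n := Nat.lt_two_pow_self.le
  calc n ^ a ≤ (2 ^ n) ^ a := Nat.pow_le_pow_left h1 a
    _ = 2 ^ (a * n) := by rw [← pow_mul, mul_comm]
    _ ≤ 2 ^ (3 * b) := Nat.pow_le_pow_right (by norm_num) h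
    _ = 8 ^ b := by rw [pow_mul]; norm_num
    _ ≤ 11 ^ b := Nat.pow_le_pow_left (by norm_num) b

/-! ### `G₂(q)` -/

theorem fine_g2_big {F : Type v} [Field F] [Fintype F] (h5 : 5 ≤ Fintype.card F) :
    Cfsg.Agent.H223.Bnd.Bn.{v, w} ↥(Lie.chevG2.group F) := by
  obtain ⟨r, hchar⟩ := CharP.exists F
  have hr : r.Prime := (CharP.char_is_prime_or_zero F r).resolve_right (CharP.char_ne_zero_of_finite F r)
  have hfact : Fact r.Prime := ⟨hr⟩
  obtain ⟨⟨f, hf⟩, -, hcard⟩ := FiniteField.card F r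
  have hcard : Fintype.card F = r ^ f := hcard
  set q := Fintype.card F with hq
  obtain ⟨hs, hna⟩ := S1055.result (F := F) (by
    classical
    by_contra hcon
    push Not at hcon
    have h1 : (Finset.univ : Finset F) ⊆ {0, 1} := by
      intro x _
      simp only [Finset.mem_insert, Finset.mem_singleton]
      by_cases hx : x = 0
      · exact Or.inl hx
      · exact Or.inr (hcon x hx)
    have h2 := Finset.card_le_card h1
    have h3 : ({0, 1} : Finset F).card ≤ 2 := Finset.card_le_two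
    rw [Finset.card_univ] at h2
    omega)
  have hT : Nat.card ↥(Lie.chevG2.group F) = q ^ 6 * (q ^ 2 - 1) * (q ^ 6 - 1) := S1059.result rfl
  have hout : Nat.card (Out ↥(Lie.chevG2.group F)) ≤ 2 * q := by
    rw [S2121.result r f hcard (by rw [← hcard]; omega)]
    have h1 : f < r ^ f := Nat.lt_pow_self hr.one_lt
    split_ifs <;> omega
  have hLS := H203.LS.G2.ls.{v, w, w} (r := r) F (by rw [Nat.card_eq_fintype_card]; omega)
    (by rw [Nat.card_eq_fintype_card]; omega)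
  rw [Nat.card_eq_fintype_card, ← hq] at hLS
  have hd : (q - 1) * q = (q - 1) * q - 1 + 1 := by
    have : 0 < (q - 1) * q := Nat.mul_pos (by omega) (by omega)
    omega
  rw [hd] at hLS
  refine of_LS hna hr ?_ hLS ?_
  · rw [hT]
    refine Dvd.dvd.mul_right (Dvd.dvd.mul_right (dvd_pow ?_ (by norm_num)) _) _
    rw [hcard]
    refine dvd_pow_self r ?_
    rintro rfl
    rw [pow_zero] at hcard
    omega
  · have h1 : Nat.card ↥(Lie.chevG2.group F) ≤ q ^ 14 := by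
      rw [hT]
      calc q ^ 6 * (q ^ 2 - 1) * (q ^ 6 - 1) ≤ q ^ 6 * q ^ 2 * q ^ 6 :=
            Nat.mul_le_mul (Nat.mul_le_mul_left _ (Nat.sub_le _ _)) (Nat.sub_le _ _)
        _ = q ^ 14 := by ring
    have h2 : Nat.card ↥(Lie.chevG2.group F) * Nat.card (Out ↥(Lie.chevG2.group F)) ≤ q ^ 16 := by
      calc _ ≤ q ^ 14 * (2 * q) := Nat.mul_le_mul h1 hout
        _ ≤ q ^ 14 * (q * q) := Nat.mul_le_mul_left _ (Nat.mul_le_mul_right _ (by omega))
        _ = q ^ 16 := by ring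
    refine h2.trans ?_
    by_cases h7 : 7 ≤ q
    · apply two_pow
      have h3 : 6 * q ≤ (q - 1) * q := Nat.mul_le_mul_right _ (by omega)
      omega
    · have h6 : q = 5 ∨ q = 6 := by omega
      rcases h6 with h6 | h6 <;> rw [h6] <;> norm_num

/-! ### `³D₄(q)` -/

theorem fine_3d4 {K : Type v} [Field K] [Fintype K] {q : ℕ} (hq : IsPrimePow q) (hK : Fintype.card K = q ^ 3) :
    Cfsg.Agent.H223.Bnd.Bn.{v, w} ↥(Lie.twistedD4 K q) := by
  obtain ⟨r, f, hr, hf, rfl⟩ := hq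
  have hr : r.Prime := hr.nat_prime
  have hfact : Fact r.Prime := ⟨hr⟩
  have hq : IsPrimePow (r ^ f) := ⟨r, f, hr.prime, hf, rfl⟩
  have hchar : CharP K r := H203.LS.charP_of_card (n := f * 3) hr (by rw [hK, pow_mul])
  obtain ⟨hs, hna⟩ := S1071.result hq hK
  have hT := S1067.result hq hK
  have hout : Nat.card (Out ↥(Lie.twistedD4 K (r ^ f))) ≤ 3 * r ^ f := by
    rw [S2129.result r f (by rw [hK, ← pow_mul, mul_comm]) hf]
    exact Nat.mul_le_mul_left _ (Nat.lt_pow_self hr.one_lt).le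
  have hLS := H203.LS.TwD4.ls.{v, w, w} (r := r) hq hK
  have h2 : 2 ≤ r ^ f := hq.two_le
  have hrq : r ∣ r ^ f := dvd_pow_self r hf.ne'
  generalize r ^ f = q at *
  have hd : (q - 1) * q ^ 4 = (q - 1) * q ^ 4 - 1 + 1 := by
    have : 0 < (q - 1) * q ^ 4 := Nat.mul_pos (by omega) (by positivity)
    omega
  rw [hd] at hLS
  refine of_LS hna hr ?_ hLS ?_
  · rw [hT]
    exact Dvd.dvd.mul_right (Dvd.dvd.mul_right (Dvd.dvd.mul_right (hrq.trans (dvd_pow_self _ (by norm_num))) _) _) _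
  · have h8 : q ^ 8 + q ^ 4 + 1 ≤ q ^ 9 := by
      have e1 : q ^ 9 = q * q ^ 8 := by ring
      have e2 : 2 * q ^ 8 ≤ q * q ^ 8 := Nat.mul_le_mul_right _ h2
      have e3 : q ^ 4 + 1 ≤ q ^ 8 := by
        have : q ^ 4 < q ^ 8 := Nat.pow_lt_pow_right (by omega) (by norm_num)
        omega
      omega
    have h1 : Nat.card ↥(Lie.twistedD4 K q) ≤ q ^ 29 := by
      rw [hT]
      calc q ^ 12 * (q ^ 2 - 1) * (q ^ 6 - 1) * (q ^ 8 + q ^ 4 + 1) ≤ q ^ 12 * q ^ 2 * q ^ 6 * q ^ 9 :=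
            Nat.mul_le_mul (Nat.mul_le_mul (Nat.mul_le_mul_left _ (Nat.sub_le _ _)) (Nat.sub_le _ _)) h8
        _ = q ^ 29 := by ring
    have h2' : Nat.card ↥(Lie.twistedD4 K q) * Nat.card (Out ↥(Lie.twistedD4 K q)) ≤ q ^ 32 := by
      calc _ ≤ q ^ 29 * (3 * q) := Nat.mul_le_mul h1 hout
        _ ≤ q ^ 29 * (q ^ 2 * q) := Nat.mul_le_mul_left _ (Nat.mul_le_mul_right _ (by nlinarith))
        _ = q ^ 32 := by ring
    refine h2'.trans ?_
    by_cases h3 : 3 ≤ q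
    · apply two_pow
      have h4 : 54 * q ≤ (q - 1) * q ^ 4 := by
        have e1 : 2 * (27 * q) ≤ (q - 1) * q ^ 4 := by
          refine Nat.mul_le_mul (by omega) ?_
          have e2 : q ^ 4 = q ^ 3 * q := by ring
          rw [e2]
          refine Nat.mul_le_mul_right _ ?_
          calc 27 = 3 ^ 3 := by norm_num
            _ ≤ q ^ 3 := Nat.pow_le_pow_left h3 3
        omega
      omega
    · have h6 : q = 2 := by omega
      rw [h6]
      norm_num

/-! ### `Sz(q)` -/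

theorem fine_sz {F : Type v} [Field F] [Fintype F] {m : ℕ} (hm : 1 ≤ m) (hF : Fintype.card F = 2 ^ (2 * m + 1)) :
    Cfsg.Agent.H223.Bnd.Bn.{v, w} ↥(Lie.Sz F (2 ^ (m + 1))) := by
  have hs := S1162.result hm hF
  have hT := (S1163.result hm hF).1
  have hout : Nat.card (Out ↥(Lie.Sz F (2 ^ (m + 1)))) ≤ 2 ^ (2 * m + 1) := by
    rw [S2126.result hm hF]
    exact (Nat.lt_two_pow_self).le
  have hLS := H203.LS.LS.sz.{v, w, w} hm hF
  rw [Nat.card_eq_fintype_card, hF] at hLS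
  have h8 : 8 ≤ 2 ^ (2 * m + 1) := by
    calc 8 = 2 ^ 3 := by norm_num
      _ ≤ _ := Nat.pow_le_pow_right (by norm_num) (by omega)
  have h2q : 2 ∣ 2 ^ (2 * m + 1) := dvd_pow_self 2 (by omega)
  generalize 2 ^ (2 * m + 1) = q at *
  have hna : ¬ IsMulCommutative ↥(Lie.Sz F (2 ^ (m + 1))) := by
    intro hc
    have hp : (Nat.card ↥(Lie.Sz F (2 ^ (m + 1)))).Prime := by
      have : IsCyclic ↥(Lie.Sz F (2 ^ (m + 1))) := by
        letI : CommGroup ↥(Lie.Sz F (2 ^ (m + 1))) := { (inferInstance : Group ↥(Lie.Sz F (2 ^ (m + 1)))) with mul_comm := hc.is_comm.comm }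
        exact IsSimpleGroup.isCyclic
      letI : CommGroup ↥(Lie.Sz F (2 ^ (m + 1))) := { (inferInstance : Group ↥(Lie.Sz F (2 ^ (m + 1)))) with mul_comm := hc.is_comm.comm }
      exact IsSimpleGroup.prime_card
    rw [hT] at hp
    have h1 := Nat.not_prime_mul (a := q ^ 2 * (q - 1)) (b := q ^ 2 + 1) ?_ ?_
    · exact h1 hp
    · intro h2
      have := Nat.eq_one_of_mul_eq_one_right h2
      nlinarith
    · nlinarith
  have hd : q - 1 = q - 2 + 1 := by omega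
  rw [hd] at hLS
  refine of_LS hna Nat.prime_two ?_ hLS ?_
  · rw [hT]
    exact Dvd.dvd.mul_right (Dvd.dvd.mul_right (h2q.trans (dvd_pow_self _ (by norm_num))) _) _
  · have h1 : Nat.card ↥(Lie.Sz F (2 ^ (m + 1))) ≤ q ^ 5 := by
      rw [hT]
      obtain ⟨k, rfl⟩ : ∃ k, q = k + 1 := ⟨q - 1, by omega⟩
      rw [Nat.add_sub_cancel]
      calc (k + 1) ^ 2 * k * ((k + 1) ^ 2 + 1) = (k + 1) ^ 2 * (k * ((k + 1) ^ 2 + 1)) := by ring
        _ ≤ (k + 1) ^ 2 * (k + 1) ^ 3 := Nat.mul_le_mul_left _ (by nlinarith [sq_nonneg k])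
        _ = (k + 1) ^ 5 := by ring
    calc _ ≤ q ^ 5 * q := Nat.mul_le_mul h1 hout
      _ = q ^ 6 := by ring
      _ ≤ 11 ^ (q - 2) := pow_six q h8

/-! ### `²G₂(q)` -/

theorem pow_eight (n : ℕ) (hn : 27 ≤ n) : n ^ 8 ≤ 11 ^ (n - 2) := by
  induction n, hn using Nat.le_induction with
  | base => norm_num
  | succ n hn ih =>
    have e : n + 1 - 2 = n - 2 + 1 := by omega
    rw [e, pow_succ 11]
    have h1 : (n + 1) ^ 8 ≤ 11 * n ^ 8 := by
      have h2 : (n + 1) ^ 2 ≤ 3 * n ^ 2 - n ^ 2 := by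
        have : (n + 1) ^ 2 ≤ 2 * n ^ 2 := by nlinarith
        omega
      have h3 : 27 * (n + 1) ≤ 28 * n := by omega
      have h4 : (27 * (n + 1)) ^ 8 ≤ (28 * n) ^ 8 := Nat.pow_le_pow_left h3 8
      rw [mul_pow, mul_pow] at h4
      have h5 : (27 : ℕ) ^ 8 = 282429536481 := by norm_num
      have h6 : (28 : ℕ) ^ 8 = 377801998336 := by norm_num
      rw [h5, h6] at h4
      omega
    omega

theorem fine_ree {F : Type v} [Field F] [Fintype F] {m : ℕ} (hm : 1 ≤ m) (hF : Fintype.card F = 3 ^ (2 * m + 1)) :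
    Cfsg.Agent.H223.Bnd.Bn.{v, w} ↥(Lie.twistedG2 F (3 ^ m)) := by
  obtain ⟨hs, hna⟩ := S1073.result hm hF
  have hT := S1069.result hF
  have hout : Nat.card (Out ↥(Lie.twistedG2 F (3 ^ m))) ≤ 3 ^ (2 * m + 1) := by
    rw [S2127.result hm hF]
    exact (Nat.lt_pow_self (by norm_num)).le
  have hLS := H203.LS.LS.ree.{v, w, w} hm hF
  rw [Nat.card_eq_fintype_card, hF] at hLS
  have h8 : 27 ≤ 3 ^ (2 * m + 1) := by
    calc 27 = 3 ^ 3 := by norm_num
      _ ≤ _ := Nat.pow_le_pow_right (by norm_num) (by omega)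
  have h2q : 3 ∣ 3 ^ (2 * m + 1) := dvd_pow_self 3 (by omega)
  generalize 3 ^ (2 * m + 1) = q at *
  have hd : q - 1 = q - 2 + 1 := by omega
  rw [hd] at hLS
  refine of_LS hna Nat.prime_three ?_ hLS ?_
  · rw [hT]
    exact Dvd.dvd.mul_right (Dvd.dvd.mul_right (h2q.trans (dvd_pow_self _ (by norm_num))) _) _
  · have h1 : Nat.card ↥(Lie.twistedG2 F (3 ^ m)) ≤ q ^ 7 := by
      rw [hT]
      obtain ⟨k, rfl⟩ : ∃ k, q = k + 1 := ⟨q - 1, by omega⟩
      rw [Nat.add_sub_cancel]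
      calc (k + 1) ^ 3 * k * ((k + 1) ^ 3 + 1) = (k + 1) ^ 3 * (k * ((k + 1) ^ 3 + 1)) := by ring
        _ ≤ (k + 1) ^ 3 * (k + 1) ^ 4 := Nat.mul_le_mul_left _ (by nlinarith [sq_nonneg k, pow_nonneg (Nat.zero_le k) 3])
        _ = (k + 1) ^ 7 := by ring
    calc _ ≤ q ^ 7 * q := Nat.mul_le_mul h1 hout
      _ = q ^ 8 := by ring
      _ ≤ 11 ^ (q - 2) := pow_eight q h8

/-! ### `²F₄(q)` -/

theorem fine_2f4 {F : Type v} [Field F] [Fintype F] {m : ℕ} (hm : 1 ≤ m) (hF : Fintype.card F = 2 ^ (2 * m + 1)) :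
    Cfsg.Agent.H223.Bnd.Bn.{v, w} ↥(Lie.twistedF4 F (2 ^ m)) := by
  obtain ⟨hs, hna⟩ := S1072.result hm hF
  have hT := S1068.result hF
  have hout : Nat.card (Out ↥(Lie.twistedF4 F (2 ^ m))) ≤ 2 ^ (2 * m + 1) := by
    rw [S2128.result hm hF]
    exact (Nat.lt_two_pow_self).le
  have hLS := H203.LS.TwF4.ls.{v, w, w} hm hF
  rw [Nat.card_eq_fintype_card, hF] at hLS
  have h8 : 8 ≤ 2 ^ (2 * m + 1) := by
    calc 8 = 2 ^ 3 := by norm_num
      _ ≤ _ := Nat.pow_le_pow_right (by norm_num) (by omega)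
  have h2q : 2 ∣ 2 ^ (2 * m + 1) := dvd_pow_self 2 (by omega)
  generalize 2 ^ (2 * m + 1) = q at *
  have hd : (q - 1) * q ^ 2 = (q - 1) * q ^ 2 - 1 + 1 := by
    have : 0 < (q - 1) * q ^ 2 := Nat.mul_pos (by omega) (by positivity)
    omega
  rw [hd] at hLS
  refine of_LS hna Nat.prime_two ?_ hLS ?_
  · rw [hT, mul_assoc, mul_assoc, mul_assoc]
    exact Dvd.dvd.mul_right (h2q.trans (dvd_pow_self _ (by norm_num))) _
  · have e3 : q ^ 3 + 1 ≤ q ^ 4 := by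
      have : q ^ 3 < q ^ 4 := Nat.pow_lt_pow_right (by omega) (by norm_num)
      omega
    have e6 : q ^ 6 + 1 ≤ q ^ 7 := by
      have : q ^ 6 < q ^ 7 := Nat.pow_lt_pow_right (by omega) (by norm_num)
      omega
    have h1 : Nat.card ↥(Lie.twistedF4 F (2 ^ m)) ≤ q ^ 28 := by
      rw [hT]
      calc q ^ 12 * (q - 1) * (q ^ 3 + 1) * (q ^ 4 - 1) * (q ^ 6 + 1) ≤ q ^ 12 * q * q ^ 4 * q ^ 4 * q ^ 7 :=
            Nat.mul_le_mul (Nat.mul_le_mul (Nat.mul_le_mul (Nat.mul_le_mul_left _ (Nat.sub_le _ _)) e3)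
              (Nat.sub_le _ _)) e6
        _ = q ^ 28 := by ring
    calc _ ≤ q ^ 28 * q := Nat.mul_le_mul h1 hout
      _ = q ^ 29 := by ring
      _ ≤ 11 ^ ((q - 1) * q ^ 2 - 1) := by
        apply two_pow
        have e1 : 7 * (8 * q) ≤ (q - 1) * q ^ 2 := by
          refine Nat.mul_le_mul (by omega) ?_
          rw [sq]
          exact Nat.mul_le_mul_right _ h8
        omega

end Cfsg.Agent.H223.Bnd.H762.FineExc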